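import Groth.Agent.Lib.FibreDimAt6.DenseBase
import Groth.Agent.Lib.NoethTop.KrullDim
import Mathlib.AlgebraicGeometry.ZariskisMainTheorem

/-!
# Morphisms with zero-dimensional fibres
-/

universe u

open AlgebraicGeometry CategoryTheory Limits

namespace GrothLib.FibreDimAt6

variable {X Y : Scheme.{u}}

theorem dim_preimage_eq (f : X ⟶ Y) (y : Y) :
    topologicalKrullDim ↥(f ⁻¹' {y}) = topologicalKrullDim ↥(f.fiber y) :=
  ((f.fiberHomeo y).isHomeomorph.topologicalKrullDim_eq _).symm

theorem locallyQuasiFinite_of_dim_fiber_le_zero (f : X ⟶ Y) [LocallyOfFiniteType f] [QuasiCompact f]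
    (h : ∀ y, topologicalKrullDim ↥(f.fiber y) ≤ 0) : LocallyQuasiFinite f := by
  refine LocallyQuasiFinite.of_finite_preimage_singleton f fun y => ?_
  haveI : LocallyOfFiniteType (f.fiberToSpecResidueField y) := MorphismProperty.pullback_snd _ _ inferInstance
  haveI : IsLocallyNoetherian (f.fiber y) :=
    LocallyOfFiniteType.isLocallyNoetherian (f.fiberToSpecResidueField y)
  haveI : CompactSpace ↥(f.fiber y) := inferInstance
  haveI : AlgebraicGeometry.IsNoetherian (f.fiber y) := {}
  haveI := (GrothLib.NoethTop.finite_discrete_of_dim_le_zero (h y)).1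
  exact Set.finite_coe_iff.mp (Finite.of_equiv _ (f.fiberHomeo y).toEquiv)

theorem isFinite_of_dim_fiber_le_zero (f : X ⟶ Y) [IsProper f] (h : ∀ y, topologicalKrullDim ↥(f.fiber y) ≤ 0) :
    IsFinite f :=
  haveI := locallyQuasiFinite_of_dim_fiber_le_zero f h
  IsFinite.of_isProper_of_locallyQuasiFinite f

theorem dim_fiber_le_zero_of_quasiFinite (f : X ⟶ Y) [LocallyQuasiFinite f] (y : Y) :
    topologicalKrullDim ↥(f.fiber y) ≤ 0 :=
  topologicalKrullDim_zero_of_discreteTopology _

theorem finite_of_flat_proper (f : X ⟶ Y) [Flat f] [IsProper f] [LocallyOfFinitePresentation f] (U : Y.Opens)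
    (hU : Dense (U : Set Y)) [IsFinite (f ∣_ U)] : IsFinite f := by
  refine isFinite_of_dim_fiber_le_zero f fun y => (dim_fiber_le_iff f y 0).mpr fun x _ => ?_
  refine fibreDimAt_le_over_dense f U hU 0 (fun z hz => ?_) (Or.inl inferInstance) x
  have hle : topologicalKrullDim ↥(f.fiber (f z)) ≤ 0 := by
    have h := dim_fiber_le_zero_of_quasiFinite (f ∣_ U) ⟨f z, hz⟩
    rw [GrothLib.FibreBC.topologicalKrullDim_fiber (isPullback_morphismRestrict f U).flip ⟨f z, hz⟩] at h
    exact h
  exact (dim_fiber_le_iff f (f z) 0).mp hle z rfl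

theorem isClopen_dim_zero_and_finite (f : X ⟶ Y) [IsProper f] [Flat f] [LocallyOfFinitePresentation f] :
    IsClopen {y : Y | topologicalKrullDim ↥(f ⁻¹' {y}) = 0} ∧
      ∀ U : Y.Opens, (U : Set Y) ⊆ {y : Y | topologicalKrullDim ↥(f ⁻¹' {y}) = 0} → IsFinite (f ∣_ U) := by
  simp only [dim_preimage_eq]
  have hrange : IsClopen (Set.range f) := ⟨f.isClosedMap.isClosed_range, f.isOpenMap.isOpen_range⟩
  have heq : ∀ y, topologicalKrullDim ↥(f.fiber y) = 0 ↔ topologicalKrullDim ↥(f.fiber y) ≤ 0 ∧ y ∈ Set.range f :=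
    fun y => by
      refine ⟨fun h => ⟨h.le, ?_⟩, fun ⟨h, x, hx⟩ => le_antisymm h ?_⟩
      · by_contra hy
        haveI : IsEmpty ↥(f.fiber y) := ⟨fun z => hy ⟨f.fiberι y z, (f.range_fiberι y).subset ⟨z, rfl⟩⟩⟩
        have hbot : topologicalKrullDim ↥(f.fiber y) = ⊥ := by
          rw [topologicalKrullDim, Order.krullDim_eq_bot_iff]
          exact ⟨fun Z => IsEmpty.false Z.isIrreducible.nonempty.some⟩
        rw [hbot] at h
        exact WithBot.bot_ne_zero h
      · obtain ⟨z, -⟩ := (f.range_fiberι y).superset hx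
        haveI : Nonempty (TopologicalSpace.IrreducibleCloseds ↥(f.fiber y)) :=
          ⟨⟨closure {z}, isIrreducible_singleton.closure, isClosed_closure⟩⟩
        exact Order.krullDim_nonneg
  refine ⟨?_, fun U hU => isFinite_of_dim_fiber_le_zero _ fun v => ?_⟩
  · rw [show {y : Y | topologicalKrullDim ↥(f.fiber y) = 0} =
      {y : Y | topologicalKrullDim ↥(f.fiber y) ≤ 0} ∩ Set.range f from Set.ext heq]
    refine ⟨IsClosed.inter ?_ hrange.1, (isOpen_dim_fiber_le f 0).inter hrange.2⟩
    rw [← isOpen_compl_iff]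
    simpa only [Set.compl_setOf, not_le] using isOpen_lt_dim_fiber f 0
  · rw [GrothLib.FibreBC.topologicalKrullDim_fiber (isPullback_morphismRestrict f U).flip v]
    exact (hU v.2).le

end GrothLib.FibreDimAt6
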