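import Groth.Agent.Lib.FibreDimAt6.GenericScheme

/-!
# The fibre dimension of a flat morphism is locally constant at generic points of fibre components
-/

universe u

open AlgebraicGeometry CategoryTheory Limits

namespace GrothLib.FibreDimAt6

variable {X S : Scheme.{u}}

theorem exists_open_fibreDimAt_eq (f : X ⟶ S) [Flat f] [LocallyOfFinitePresentation f] (x : X)
    (hmax : ∀ y, f y = f x → y ⤳ x → y = x) :
    ∃ (d : ℕ) (U : X.Opens), x ∈ U ∧ ∀ y ∈ U, FlatMor.fibreDimAt f y = (d : WithBot ℕ∞) := by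
  obtain ⟨_, ⟨(V : S.Opens), hV, rfl⟩, hsV, -⟩ := S.isBasis_affineOpens.exists_subset_of_mem_open
    (Set.mem_univ (f x)) isOpen_univ
  obtain ⟨_, ⟨(W : X.Opens), hW, rfl⟩, hxW, hsub⟩ := X.isBasis_affineOpens.exists_subset_of_mem_open
    (show x ∈ f ⁻¹ᵁ V from hsV) (f ⁻¹ᵁ V).2
  let R : CommRingCat.{u} := Γ(S, V)
  let A : CommRingCat.{u} := Γ(X, W)
  letI := (f.appLE V W hsub).hom.toAlgebra
  haveI : Algebra.FinitePresentation R A :=
    HasRingHomProperty.appLE @LocallyOfFinitePresentation f inferInstance ⟨V, hV⟩ ⟨W, hW⟩ hsub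
  haveI : Module.Flat R A := HasRingHomProperty.appLE @Flat f inferInstance ⟨V, hV⟩ ⟨W, hW⟩ hsub
  have hsq : hW.fromSpec ≫ f = Spec.map (CommRingCat.ofHom (algebraMap R A)) ≫ hV.fromSpec :=
    (hV.SpecMap_appLE_fromSpec f hW hsub).symm
  have hfs : ∀ q : PrimeSpectrum A, f (hW.fromSpec q) = hV.fromSpec (PrimeSpectrum.comap (algebraMap R A) q) :=
    fun q => by
      rw [← Scheme.Hom.comp_apply, hsq]
      rfl
  obtain ⟨q, hq⟩ : ∃ q : PrimeSpectrum A, hW.fromSpec q = x := hW.range_fromSpec.symm.subset hxW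
  obtain ⟨d, b, hb, ⟨c, hc, hdim⟩, hlow⟩ := exists_fibreDim_between (R := R) q fun z hz hzp => by
    have := hmax (hW.fromSpec z) (by rw [← hq, hfs, hfs, hzp])
      (hq ▸ ((PrimeSpectrum.le_iff_specializes _ _).mp hz).map hW.fromSpec.continuous)
    exact hW.fromSpec.isOpenEmbedding.injective (this.trans hq.symm)
  have key : ∀ (e : A), ∃ j : Spec (CommRingCat.of (Localization.Away e)) ⟶ X, ∃ _ : IsOpenImmersion j,
      Set.range j = hW.fromSpec '' (PrimeSpectrum.basicOpen e : Set (PrimeSpectrum A)) ∧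
      j ≫ f = Spec.map (CommRingCat.ofHom (algebraMap R (Localization.Away e))) ≫ hV.fromSpec := fun e => by
    let ℓ : Spec (CommRingCat.of (Localization.Away e)) ⟶ Spec A :=
      Spec.map (CommRingCat.ofHom (algebraMap A (Localization.Away e)))
    haveI : IsOpenImmersion ℓ := IsOpenImmersion.of_isLocalization e
    refine ⟨ℓ ≫ hW.fromSpec, inferInstance, ?_, ?_⟩
    · rw [Scheme.Hom.comp_base, TopCat.coe_comp, Set.range_comp]
      exact congrArg _ (PrimeSpectrum.localization_away_comap_range (Localization.Away e) e)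
    · rw [Category.assoc, hsq, ← Category.assoc, ← Spec.map_comp, ← CommRingCat.ofHom_comp,
        ← IsScalarTower.algebraMap_eq]
  have hd : FlatMor.fibreDimAt f x ≤ (d : WithBot ℕ∞) := by
    obtain ⟨j, _, hr, hj⟩ := key c
    refine le_trans (fibreDimAt_le_of_open f x j.opensRange (show x ∈ Set.range j from hr ▸ ⟨q, hc, hq⟩)) ?_
    rw [Scheme.Hom.coe_opensRange, ← hq, hfs, dim_trace f j hV.fromSpec hj]
    exact hdim
  let U : X.Opens := (hW.fromSpec ''ᵁ PrimeSpectrum.basicOpen b) ⊓ ⟨_, isOpen_fibreDimAt_le f d⟩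
  refine ⟨d, U, ⟨⟨q, hb, hq⟩, hd⟩, ?_⟩
  rintro y ⟨⟨q', hq'b, hq'⟩, hy⟩
  refine le_antisymm hy ?_
  obtain ⟨O, hyO, hO⟩ := fibreDimAt_attained f y
  obtain ⟨_, ⟨e, rfl⟩, he, hsubU⟩ := PrimeSpectrum.isTopologicalBasis_basic_opens.exists_subset_of_mem_open
    (show q' ∈ (hW.fromSpec ⁻¹' (O : Set X) : Set (PrimeSpectrum A)) from (congrArg (· ∈ (O : Set X)) hq').mpr hyO)
    (O.2.preimage hW.fromSpec.continuous)
  obtain ⟨j, _, hr, hj⟩ := key e
  rw [← hO]
  refine le_trans (hlow q' hq'b e he) (le_of_eq_of_le (dim_trace f j hV.fromSpec hj _).symm ?_)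
  have hsub' : Set.range j ∩ f ⁻¹' {hV.fromSpec (PrimeSpectrum.comap (algebraMap R A) q')} ⊆
      (O : Set X) ∩ f ⁻¹' {f y} := by
    rw [← hfs q', show hW.fromSpec q' = y from hq', hr]
    exact Set.inter_subset_inter_left _ (Set.image_subset_iff.mpr hsubU)
  exact (Topology.IsEmbedding.inclusion hsub').isInducing.topologicalKrullDim_le

theorem exists_pieces (f : X ⟶ S) [Flat f] [LocallyOfFinitePresentation f] :
    ∃ U : ℕ → X.Opens, (∀ s : S, Dense ((f.fiberι s) ⁻¹' ((⨆ d, U d : X.Opens) : Set ↑X))) ∧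
      ∀ (d : ℕ) (x : ↑X), x ∈ U d → FlatMor.fibreDimAt f x = d := by
  let U : ℕ → X.Opens := fun d => ⟨interior {x | FlatMor.fibreDimAt f x = (d : WithBot ℕ∞)}, isOpen_interior⟩
  refine ⟨U, fun s => ?_, fun d x hx => interior_subset (s := {x | FlatMor.fibreDimAt f x = (d : WithBot ℕ∞)}) hx⟩
  rw [dense_iff_closure_eq, Set.eq_univ_iff_forall]
  intro z
  let Z := irreducibleComponent z
  have hZ : Z ∈ irreducibleComponents ↥(f.fiber s) := irreducibleComponent_mem_irreducibleComponents z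
  obtain ⟨g, hg⟩ := QuasiSober.sober isIrreducible_irreducibleComponent (isClosed_irreducibleComponent (x := z))
  refine closure_mono (Set.singleton_subset_iff.mpr ?_)
    (specializes_iff_mem_closure.mp (hg.specializes mem_irreducibleComponent))
  obtain ⟨d, O, hxO, hO⟩ := exists_open_fibreDimAt_eq f (f.fiberι s g) fun y hy hyx => by
    have hs : f (f.fiberι s g) = s := (f.range_fiberι s).subset ⟨g, rfl⟩
    obtain ⟨w, hw⟩ := (f.range_fiberι s).superset (show f y = s from hy.trans hs)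
    have hwg : w ⤳ g := (f.fiberι s).isEmbedding.isInducing.specializes_iff.mp (hw ▸ hyx)
    have hsub : Z ≤ closure {w} := fun t ht => specializes_iff_mem_closure.mp (hwg.trans (hg.specializes ht))
    have hgw : g ⤳ w := hg.specializes (hZ.2 isIrreducible_singleton.closure hsub (subset_closure rfl))
    rw [← hw, (hwg.antisymm hgw).eq]
  show f.fiberι s g ∈ (⨆ d, U d : X.Opens)
  exact TopologicalSpace.Opens.mem_iSup.mpr ⟨d, interior_maximal hO O.2 hxO⟩

end GrothLib.FibreDimAt6
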