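import Groth.Agent.Lib.FibreDimAt6.Generic
import Mathlib.AlgebraicGeometry.Morphisms.Smooth
import Mathlib.RingTheory.RingHom.StandardSmooth

/-!
# The fibre dimension of a smooth morphism of relative dimension `n`
-/

universe u

open AlgebraicGeometry CategoryTheory Limits

namespace GrothLib.FibreDimAt6

theorem dim_fiber_away_eq {R A : Type u} [CommRing R] [CommRing A] [Algebra R A] {n : ℕ}
    [Algebra (MvPolynomial (Fin n) R) A] [IsScalarTower R (MvPolynomial (Fin n) R) A]
    [Algebra.Etale (MvPolynomial (Fin n) R) A] [Algebra.FiniteType R A] (q : PrimeSpectrum A) (c : A)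
    (hc : c ∉ q.asIdeal) :
    ringKrullDim ((PrimeSpectrum.comap (algebraMap R A) q).asIdeal.Fiber (Localization.Away c)) =
      (n : WithBot ℕ∞) := by
  let P := MvPolynomial (Fin n) R
  refine le_antisymm ?_ ?_
  · haveI : Algebra.QuasiFinite P (Localization.Away c) := by
      haveI : Algebra.QuasiFinite P A := inferInstance
      exact Algebra.QuasiFinite.of_isLocalization (S := A) (Submonoid.powers c)
    exact (fibre_dim_le_of_quasiFinite P (Localization.Away c) _).trans (dim_fiber_mvPolynomial n _).le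
  · haveI : Module.Flat P (Localization.AtPrime q.asIdeal) := Module.Flat.trans P A _
    exact le_dim_fiber_of_flatAt q c hc

theorem fibreDimAt_eq_of_smooth (n : ℕ) {X Y : Scheme.{u}} (f : X ⟶ Y) [SmoothOfRelativeDimension n f] (x : X) :
    FlatMor.fibreDimAt f x = (n : WithBot ℕ∞) := by
  obtain ⟨V, hV, W, hW, hxW, hsub, hstd⟩ :=
    SmoothOfRelativeDimension.exists_isStandardSmoothOfRelativeDimension (n := n) (f := f) x
  let R : CommRingCat.{u} := Γ(Y, V)
  let A : CommRingCat.{u} := Γ(X, W)
  obtain ⟨g, hg, het⟩ := RingHom.IsStandardSmoothOfRelativeDimension.exists_etale_mvPolynomial hstd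
  letI := (f.appLE V W hsub).hom.toAlgebra
  letI := g.toAlgebra
  haveI : IsScalarTower R (MvPolynomial (Fin n) R) A := IsScalarTower.of_algebraMap_eq fun r =>
    (RingHom.congr_fun hg r).symm
  haveI : Algebra.Etale (MvPolynomial (Fin n) R) A := het
  haveI : Algebra.FiniteType R A := Algebra.FiniteType.trans (S := MvPolynomial (Fin n) R) inferInstance inferInstance
  have hsq : hW.fromSpec ≫ f = Spec.map (CommRingCat.ofHom (algebraMap R A)) ≫ hV.fromSpec :=
    (hV.SpecMap_appLE_fromSpec f hW hsub).symm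
  obtain ⟨q, hq⟩ : ∃ q : PrimeSpectrum A, hW.fromSpec q = x := hW.range_fromSpec.symm.subset hxW
  have hfs : f x = hV.fromSpec (PrimeSpectrum.comap (algebraMap R A) q) := by
    rw [← hq, ← Scheme.Hom.comp_apply, hsq]
    rfl
  have key : ∀ (e : A), e ∉ q.asIdeal →
      topologicalKrullDim ↥(hW.fromSpec '' (PrimeSpectrum.basicOpen e : Set (PrimeSpectrum A)) ∩ f ⁻¹' {f x}) =
        (n : WithBot ℕ∞) := fun e he => by
    let ℓ : Spec (CommRingCat.of (Localization.Away e)) ⟶ Spec A :=
      Spec.map (CommRingCat.ofHom (algebraMap A (Localization.Away e)))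
    haveI : IsOpenImmersion ℓ := IsOpenImmersion.of_isLocalization e
    have hr : Set.range (ℓ ≫ hW.fromSpec) = hW.fromSpec '' (PrimeSpectrum.basicOpen e : Set (PrimeSpectrum A)) := by
      rw [Scheme.Hom.comp_base, TopCat.coe_comp, Set.range_comp]
      exact congrArg _ (PrimeSpectrum.localization_away_comap_range (Localization.Away e) e)
    have hj : (ℓ ≫ hW.fromSpec) ≫ f =
        Spec.map (CommRingCat.ofHom (algebraMap R (Localization.Away e))) ≫ hV.fromSpec := by
      rw [Category.assoc, hsq, ← Category.assoc, ← Spec.map_comp, ← CommRingCat.ofHom_comp,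
        ← IsScalarTower.algebraMap_eq]
    rw [← hr, hfs, dim_trace f (ℓ ≫ hW.fromSpec) hV.fromSpec hj]
    exact dim_fiber_away_eq q e he
  refine le_antisymm ?_ ?_
  · refine le_trans (fibreDimAt_le_of_open f x W hxW) (le_of_eq ?_)
    rw [← key 1 (fun h => q.isPrime.ne_top ((Ideal.eq_top_iff_one _).mpr h))]
    rw [PrimeSpectrum.basicOpen_one, TopologicalSpace.Opens.coe_top]
    exact congrArg (fun Z : Set X => topologicalKrullDim ↥(Z ∩ f ⁻¹' {f x}))
      ((Set.image_univ (f := hW.fromSpec)).trans hW.range_fromSpec).symm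
  · obtain ⟨U, hxU, hU⟩ := fibreDimAt_attained f x
    obtain ⟨_, ⟨e, rfl⟩, he, hsubU⟩ := PrimeSpectrum.isTopologicalBasis_basic_opens.exists_subset_of_mem_open
      (show q ∈ (hW.fromSpec ⁻¹' (U : Set X) : Set (PrimeSpectrum A)) from (congrArg (· ∈ (U : Set X)) hq).mpr hxU)
      (U.2.preimage hW.fromSpec.continuous)
    rw [← hU, ← key e he]
    exact (Topology.IsEmbedding.inclusion (Set.inter_subset_inter_left _
      (Set.image_subset_iff.mpr hsubU))).isInducing.topologicalKrullDim_le

end GrothLib.FibreDimAt6
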