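import Groth.Agent.Lib.FibreDimAt6.Flat

/-!
# Fibre dimension of a flat morphism is controlled over a dense open
-/

universe u

open AlgebraicGeometry CategoryTheory Limits

namespace GrothLib.FibreDimAt6

theorem exists_le_mem_of_dense {R : Type u} [CommRing R] (s : Set (PrimeSpectrum R)) (hs : IsCompact s)
    (ho : IsOpen s) (hd : Dense s) (p : PrimeSpectrum R) : ∃ q ∈ s, q ≤ p := by
  classical
  obtain ⟨t, rfl⟩ := PrimeSpectrum.isCompact_isOpen_iff.mp ⟨hs, ho⟩
  obtain ⟨q, hq, hqp⟩ := Ideal.exists_minimalPrimes_le (bot_le : (⊥ : Ideal R) ≤ p.asIdeal)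
  haveI := hq.1.1
  refine ⟨⟨q, hq.1.1⟩, fun hmem => ?_, hqp⟩
  rw [PrimeSpectrum.mem_zeroLocus] at hmem
  have key : ∀ x ∈ t, ∃ y ∉ q, ∃ n : ℕ, y * x ^ n = 0 := fun x hx => by
    obtain ⟨n, hn⟩ : IsNilpotent (algebraMap R (Localization.AtPrime q) x) := by
      rw [nilpotent_iff_mem_prime]
      intro J hJ
      have h1 : J.comap (algebraMap R (Localization.AtPrime q)) ≤ q := by
        intro z hz
        by_contra hzq
        exact hJ.ne_top (J.eq_top_of_isUnit_mem hz (IsLocalization.map_units _ (⟨z, hzq⟩ : q.primeCompl)))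
      exact hq.2 ⟨Ideal.comap_isPrime _ _, bot_le⟩ h1 (hmem hx)
    rw [← map_pow, IsLocalization.map_eq_zero_iff q.primeCompl] at hn
    obtain ⟨y, hy⟩ := hn
    exact ⟨y, y.2, n, hy⟩
  choose y hy n hn using key
  let g := ∏ x ∈ t.attach, y x.1 x.2
  have hg : g ∉ q := fun h => by
    obtain ⟨x, -, hx⟩ := hq.1.1.prod_mem_iff.mp h
    exact hy x.1 x.2 hx
  obtain ⟨r, hr, hrg⟩ := hd.inter_open_nonempty (PrimeSpectrum.basicOpen g : Set (PrimeSpectrum R))
    (PrimeSpectrum.basicOpen g).2 ⟨⟨q, hq.1.1⟩, hg⟩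
  refine hrg (PrimeSpectrum.mem_zeroLocus _ _ |>.mpr fun x hx => ?_)
  have hy' : y x hx ∉ r.asIdeal := fun h => hr (by
    show g ∈ r.asIdeal
    exact r.isPrime.prod_mem_iff.mpr ⟨⟨x, hx⟩, Finset.mem_attach _ _, h⟩)
  have := r.isPrime.mem_or_mem (show y x hx * x ^ n x hx ∈ r.asIdeal by rw [hn x hx]; exact zero_mem _)
  exact r.isPrime.mem_of_pow_mem _ (this.resolve_left hy')

variable {X S : Scheme.{u}}

theorem exists_specializes_mem (U : S.Opens) (hd : Dense (U : Set S)) (hr : IsRetrocompact (U : Set S)) (s : S) :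
    ∃ η ∈ U, η ⤳ s := by
  obtain ⟨_, ⟨(V : S.Opens), hV, rfl⟩, hsV, -⟩ := S.isBasis_affineOpens.exists_subset_of_mem_open
    (Set.mem_univ s) isOpen_univ
  have hc : IsCompact (hV.fromSpec ⁻¹' (U : Set S)) := by
    rw [hV.fromSpec.isOpenEmbedding.isInducing.isCompact_iff, Set.image_preimage_eq_inter_range, hV.range_fromSpec]
    exact hr hV.isCompact V.2
  obtain ⟨q, hq, hle⟩ := exists_le_mem_of_dense _ hc (U.2.preimage hV.fromSpec.continuous)
    (hd.preimage hV.fromSpec.isOpenEmbedding.isOpenMap) (hV.primeIdealOf ⟨s, hsV⟩)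
  refine ⟨hV.fromSpec q, hq, ?_⟩
  have := ((PrimeSpectrum.le_iff_specializes _ _).mp hle).map hV.fromSpec.continuous
  rwa [hV.fromSpec_primeIdealOf] at this

theorem fibreDimAt_le_over_dense (f : X ⟶ S) [Flat f] [LocallyOfFiniteType f]
    (U : S.Opens) (hU : Dense (U : Set S)) (e : WithBot ℕ∞)
    (hle : ∀ x : X, f x ∈ U → FlatMor.fibreDimAt f x ≤ e)
    (h : LocallyOfFinitePresentation f ∨ IsRetrocompact (U : Set S)) (x : X) :
    FlatMor.fibreDimAt f x ≤ e := by
  obtain ⟨_, ⟨(V : S.Opens), hV, rfl⟩, hsV, -⟩ := S.isBasis_affineOpens.exists_subset_of_mem_open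
    (Set.mem_univ (f x)) isOpen_univ
  obtain ⟨_, ⟨(W : X.Opens), hW, rfl⟩, hxW, hsub⟩ := X.isBasis_affineOpens.exists_subset_of_mem_open
    (show x ∈ f ⁻¹ᵁ V from hsV) (f ⁻¹ᵁ V).2
  let g : W.toScheme ⟶ V.toScheme := f.resLE V W hsub
  have key : ∀ v : V.toScheme, topologicalKrullDim ↥(g.fiber v) =
      topologicalKrullDim ↥((W : Set X) ∩ f ⁻¹' {V.ι v}) := fun v => by
    symm
    refine GrothLib.Dim.IsEmbedding.topologicalKrullDim_eq
      (f := fun z : ↥(g.fiber v) => W.ι (g.fiberι v z))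
      (W.ι.isOpenEmbedding.isEmbedding.comp (g.fiberι v).isEmbedding) ?_ |>.symm
    ext y
    constructor
    · rintro ⟨z, rfl⟩
      refine ⟨(g.fiberι v z).2, ?_⟩
      have hz : g (g.fiberι v z) = v := (g.range_fiberι v).subset ⟨z, rfl⟩
      show f (W.ι (g.fiberι v z)) = V.ι v
      rw [← Scheme.Hom.comp_apply, ← f.resLE_comp_ι hsub, Scheme.Hom.comp_apply]
      exact congrArg _ hz
    · rintro ⟨hyW, hy⟩
      obtain ⟨z, hz⟩ := (g.range_fiberι v).superset (show g ⟨y, hyW⟩ = v from V.ι.isOpenEmbedding.injective (by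
        rw [← Scheme.Hom.comp_apply, f.resLE_comp_ι hsub, Scheme.Hom.comp_apply]
        exact hy))
      exact ⟨z, by simp only [hz]; rfl⟩
  have gen : ∀ v : V.toScheme, V.ι v ∈ U → topologicalKrullDim ↥(g.fiber v) ≤ e := fun v hv => by
    refine (dim_fiber_le_iff g v e).mpr fun w hw => ?_
    have hfw : f (W.ι w) = V.ι v := by
      rw [← Scheme.Hom.comp_apply, ← f.resLE_comp_ι hsub, Scheme.Hom.comp_apply, hw]
    obtain ⟨O, hwO, hdim⟩ := fibreDimAt_attained f (W.ι w)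
    refine le_trans (le_trans (fibreDimAt_le_of_open g w (W.ι ⁻¹ᵁ O) hwO) ?_) (hle (W.ι w) (hfw ▸ hv))
    rw [← hdim]
    refine Topology.IsInducing.topologicalKrullDim_le (f := fun z : ↥((↑(W.ι ⁻¹ᵁ O) : Set W.toScheme) ∩ g ⁻¹' {g w}) =>
      (⟨W.ι z.1, z.2.1, ?_⟩ : ↥((O : Set X) ∩ f ⁻¹' {f (W.ι w)}))) ?_
    · show f (W.ι z.1) = f (W.ι w)
      rw [← Scheme.Hom.comp_apply, ← Scheme.Hom.comp_apply W.ι f, ← f.resLE_comp_ι hsub, Scheme.Hom.comp_apply,
        Scheme.Hom.comp_apply]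
      exact congrArg _ z.2.2
    · refine Topology.IsInducing.of_comp ?_ continuous_subtype_val
        (W.ι.isOpenEmbedding.isInducing.comp Topology.IsInducing.subtypeVal)
      exact (W.ι.continuous.comp continuous_subtype_val).subtype_mk _
  have hall : ∀ v : V.toScheme, topologicalKrullDim ↥(g.fiber v) ≤ e := by
    rcases h with h | h
    · intro v
      by_contra hv
      haveI : IsAffine W.toScheme := hW
      haveI : IsAffine V.toScheme := hV
      haveI : QuasiCompact g := (HasAffineProperty.iff_of_isAffine (P := @QuasiCompact)).mpr inferInstance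
      have ho := isOpen_lt_dim_fiber g e
      obtain ⟨t, ht, htU⟩ := (hU.preimage V.ι.isOpenEmbedding.isOpenMap).inter_open_nonempty _ ho ⟨v, not_le.mp hv⟩
      exact not_lt_of_ge (gen t htU) ht
    · intro v
      obtain ⟨η, hη, hsp⟩ := exists_specializes_mem U hU h (V.ι v)
      have hηV : η ∈ V := hsp.mem_open V.2 v.2
      exact le_trans (dim_fiber_le_of_specializes g (s' := ⟨η, hηV⟩) (Topology.IsInducing.specializes_iff
        V.ι.isOpenEmbedding.isInducing |>.mp hsp)) (gen _ hη)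
  refine le_trans (fibreDimAt_le_of_open f x W hxW) ?_
  exact le_of_eq_of_le (key ⟨f x, hsV⟩).symm (hall _)

end GrothLib.FibreDimAt6
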