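import Mathlib.RingTheory.ZariskisMainTheorem
import Mathlib.RingTheory.NoetherNormalization
import Mathlib.RingTheory.KrullDimension.Polynomial
import Mathlib.RingTheory.TensorProduct.MvPolynomial
import Groth.Agent.Lib.Dim.Ring

/-!
# Fibre dimension is upper semicontinuous on the source: rings
-/

universe u

open TensorProduct

set_option linter.style.haveILetI false

noncomputable section

namespace GrothLib.FibreDimAt6

variable {R : Type u} [CommRing R]

theorem fiberIso_symm_apply (A : Type u) [CommRing A] [Algebra R A] (p : PrimeSpectrum R)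
    (x : PrimeSpectrum (p.asIdeal.Fiber A)) :
    ((PrimeSpectrum.preimageOrderIsoFiber R A p).symm x).1.asIdeal =
      x.asIdeal.comap (Algebra.TensorProduct.includeRight (R := R) (A := p.asIdeal.ResidueField) (B := A)).toRingHom :=
  rfl

/-- Along a quasi-finite map fibre dimensions do not go up. -/
theorem fibre_dim_le_of_quasiFinite (P A : Type u) [CommRing P] [CommRing A] [Algebra R P] [Algebra R A]
    [Algebra P A] [IsScalarTower R P A] [Algebra.QuasiFinite P A] (p : PrimeSpectrum R) :
    ringKrullDim (p.asIdeal.Fiber A) ≤ ringKrullDim (p.asIdeal.Fiber P) := by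
  let eA := PrimeSpectrum.preimageOrderIsoFiber R A p
  let eP := PrimeSpectrum.preimageOrderIsoFiber R P p
  let m : ↑(PrimeSpectrum.comap (algebraMap R A) ⁻¹' {p}) → ↑(PrimeSpectrum.comap (algebraMap R P) ⁻¹' {p}) :=
    fun z => ⟨PrimeSpectrum.comap (algebraMap P A) z.1, by
      show PrimeSpectrum.comap _ (PrimeSpectrum.comap _ z.1) = p
      rw [← PrimeSpectrum.comap_comp_apply, ← IsScalarTower.algebraMap_eq]
      exact z.2⟩
  refine Order.krullDim_le_of_strictMono (fun x => eP (m (eA.symm x))) fun x y hxy => ?_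
  refine eP.strictMono (lt_of_le_of_ne ?_ fun heq => hxy.ne ?_)
  · exact Ideal.comap_mono (eA.symm.monotone hxy.le)
  · refine eA.symm.injective (Subtype.ext (PrimeSpectrum.ext ?_))
    exact Algebra.QuasiFinite.eq_of_le_of_under_eq (R := P) _ _ (eA.symm.monotone hxy.le)
      (congrArg (fun z => z.1.asIdeal) heq)

theorem dim_fiber_mvPolynomial (n : ℕ) (p : PrimeSpectrum R) :
    ringKrullDim (p.asIdeal.Fiber (MvPolynomial (Fin n) R)) = (n : WithBot ℕ∞) := by
  rw [ringKrullDim_eq_of_ringEquiv
    (MvPolynomial.algebraTensorAlgEquiv R p.asIdeal.ResidueField (σ := Fin n)).toRingEquiv,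
    MvPolynomial.ringKrullDim_of_isNoetherianRing, ringKrullDim_eq_zero_of_field]
  simp

theorem quasiFinite_away_of_surjective {S A : Type u} [CommRing S] [CommRing A] [Algebra R S] [Algebra R A]
    [Algebra.QuasiFinite R S] (f : S →ₐ[R] A) (r : S)
    (hsurj : Function.Surjective (Localization.awayMap f.toRingHom r)) :
    Algebra.QuasiFinite R (Localization.Away (f r)) := by
  haveI : Algebra.QuasiFinite R (Localization.Away r) :=
    Algebra.QuasiFinite.of_isLocalization (S := S) (Submonoid.powers r)
  haveI : IsLocalization.Away (f.toRingHom r) (Localization.Away (f r)) :=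
    inferInstanceAs (IsLocalization.Away (f r) (Localization.Away (f r)))
  refine Algebra.QuasiFinite.of_surjective_algHom
    (⟨Localization.awayMap f.toRingHom r, fun c => ?_⟩ : Localization.Away r →ₐ[R] Localization.Away (f r)) hsurj
  show Localization.awayMap f.toRingHom r (algebraMap R (Localization.Away r) c) = _
  rw [IsScalarTower.algebraMap_apply R S (Localization.Away r),
    IsScalarTower.algebraMap_apply R A (Localization.Away (f r)), Localization.awayMap, IsLocalization.Away.map,
    IsLocalization.map_eq]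
  exact congrArg (algebraMap A (Localization.Away (f r))) (f.commutes c)

/-- A quasi-finite point has a basic open neighbourhood quasi-finite over the base. -/
theorem exists_quasiFinite_away (A : Type u) [CommRing A] [Algebra R A] [Algebra.FiniteType R A]
    (q : Ideal A) [q.IsPrime] [Algebra.QuasiFiniteAt R q] :
    ∃ r ∉ q, Algebra.QuasiFinite R (Localization.Away r) := by
  obtain ⟨S', hS', r, hr, hbij⟩ := Algebra.QuasiFiniteAt.exists_fg_and_exists_notMem_and_awayMap_bijective (R := R) q
  haveI : Module.Finite R S' := Module.Finite.iff_fg.mpr hS'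
  haveI : Algebra.QuasiFinite R S' := inferInstance
  exact ⟨r.1, hr, quasiFinite_away_of_surjective S'.val r hbij.2⟩

theorem finite_comp_of_field (k C : Type u) [Field k] [CommRing C] [Algebra k C] {m n : ℕ} (hm : m ≤ n)
    (g : MvPolynomial (Fin m) k →ₐ[k] C) (hg : g.Finite) (c : Fin n → C) (u : Fin n → k)
    (hc : ∀ j : Fin m, g (MvPolynomial.X j) = u (Fin.castLE hm j) • c (Fin.castLE hm j)) :
    (MvPolynomial.aeval (R := k) c).Finite := by
  let h : MvPolynomial (Fin m) k →ₐ[k] MvPolynomial (Fin n) k :=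
    MvPolynomial.aeval fun j => u (Fin.castLE hm j) • MvPolynomial.X (Fin.castLE hm j)
  have : (MvPolynomial.aeval c).comp h = g := MvPolynomial.algHom_ext fun j => by
    rw [hc]
    simp [h]
  exact AlgHom.Finite.of_comp_finite (this.symm ▸ hg : ((MvPolynomial.aeval c).comp h).Finite)

/-- Near a point whose fibre has dimension at most `n` all fibres have dimension at most `n`. -/
theorem exists_away_dim_le (A : Type u) [CommRing A] [Algebra R A] [Algebra.FiniteType R A]
    (q : PrimeSpectrum A) (n : ℕ)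
    (hdim : ringKrullDim ((PrimeSpectrum.comap (algebraMap R A) q).asIdeal.Fiber A) ≤ (n : WithBot ℕ∞)) :
    ∃ r ∉ q.asIdeal, ∀ p : PrimeSpectrum R, ringKrullDim (p.asIdeal.Fiber (Localization.Away r)) ≤ (n : WithBot ℕ∞) := by
  classical
  let p₀ := PrimeSpectrum.comap (algebraMap R A) q
  let k := p₀.asIdeal.ResidueField
  let C := p₀.asIdeal.Fiber A
  haveI : Nontrivial C := by
    have : PrimeSpectrum C := PrimeSpectrum.preimageOrderIsoFiber R A p₀ ⟨q, rfl⟩
    exact ⟨⟨0, 1, fun h => this.2.ne_top ((Ideal.eq_top_iff_one _).mpr (h ▸ Submodule.zero_mem _))⟩⟩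
  obtain ⟨m, g, hg, hgfin⟩ := exists_finite_inj_algHom_of_fg k C
  have hm : m ≤ n := by
    have h : ringKrullDim C = (m : WithBot ℕ∞) := by
      letI := g.toRingHom.toAlgebra
      haveI : Algebra.IsIntegral (MvPolynomial (Fin m) k) C := ⟨fun x => hgfin.to_isIntegral x⟩
      rw [GrothLib.Dim.ringKrullDim_eq_of_isIntegral (R := MvPolynomial (Fin m) k) (S := C) hg,
        MvPolynomial.ringKrullDim_of_isNoetherianRing, ringKrullDim_eq_zero_of_field]
      simp
    have := h.symm.trans_le hdim
    exact_mod_cast this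
  choose s hs a hsa using fun j : Fin m => Ideal.Fiber.exists_smul_eq_one_tmul p₀.asIdeal (g (MvPolynomial.X j))
  let b : Fin n → A := fun i => if h : (i : ℕ) < m then a ⟨i, h⟩ else 0
  let u : Fin n → k := fun i => if h : (i : ℕ) < m then (algebraMap R k (s ⟨i, h⟩))⁻¹ else 0
  let P := MvPolynomial (Fin n) R
  let ψ : P →ₐ[R] A := MvPolynomial.aeval b
  have hfin : (MvPolynomial.aeval (R := k) fun i => ((1 : k) ⊗ₜ[R] b i : C)).Finite := by
    refine finite_comp_of_field k C hm g hgfin _ u fun j => ?_
    have hj : ((Fin.castLE hm j : Fin n) : ℕ) < m := j.2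
    have hne : algebraMap R k (s j) ≠ 0 := fun h => hs j (Ideal.algebraMap_residueField_eq_zero.mp h)
    simp only [b, u, dif_pos hj, Fin.val_castLE, Fin.eta]
    rw [← hsa j, ← algebraMap_smul k (s j) (g (MvPolynomial.X j)), inv_smul_smul₀ hne]
  letI := ψ.toRingHom.toAlgebra
  haveI : IsScalarTower R P A := IsScalarTower.of_algebraMap_eq fun c => (ψ.commutes c).symm
  haveI : Algebra.FiniteType P A := Algebra.FiniteType.of_restrictScalars_finiteType R P A
  let φ : p₀.asIdeal.Fiber P →ₐ[k] C := Algebra.TensorProduct.map (AlgHom.id k k) ψ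
  have hφ : φ.Finite := by
    refine AlgHom.Finite.of_comp_finite (f := MvPolynomial.aeval (R := k)
      fun i => ((1 : k) ⊗ₜ[R] (MvPolynomial.X i : P) : p₀.asIdeal.Fiber P)) ?_
    convert! hfin
    refine MvPolynomial.algHom_ext fun i => ?_
    rw [AlgHom.comp_apply, MvPolynomial.aeval_X, MvPolynomial.aeval_X]
    show (1 : k) ⊗ₜ[R] ψ (MvPolynomial.X i) = _
    rw [MvPolynomial.aeval_X]
  letI : Algebra (p₀.asIdeal.Fiber P) C := φ.toRingHom.toAlgebra
  haveI : Module.Finite (p₀.asIdeal.Fiber P) C := hφ
  haveI : Algebra.QuasiFinite (p₀.asIdeal.Fiber P) C := inferInstance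
  let P₀ := PrimeSpectrum.comap (algebraMap P A) q
  have hP₀ : P₀ ∈ PrimeSpectrum.comap (algebraMap R P) ⁻¹' {p₀} := by
    show PrimeSpectrum.comap _ (PrimeSpectrum.comap _ q) = p₀
    rw [← PrimeSpectrum.comap_comp_apply, ← IsScalarTower.algebraMap_eq]
  let Z := PrimeSpectrum.comap (algebraMap P A) ⁻¹' {P₀}
  have hmem : ∀ z : Z, z.1 ∈ PrimeSpectrum.comap (algebraMap R A) ⁻¹' {p₀} := fun z => by
    show PrimeSpectrum.comap _ z.1 = p₀
    rw [IsScalarTower.algebraMap_eq R P A, PrimeSpectrum.comap_comp_apply,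
      show PrimeSpectrum.comap (algebraMap P A) z.1 = P₀ from z.2]
    exact hP₀
  let eA := PrimeSpectrum.preimageOrderIsoFiber R A p₀
  let eP := PrimeSpectrum.preimageOrderIsoFiber R P p₀
  let w : Z → PrimeSpectrum C := fun z => eA ⟨z.1, hmem z⟩
  have hw : ∀ z, PrimeSpectrum.comap φ.toRingHom (w z) = eP ⟨P₀, hP₀⟩ := fun z => by
    apply eP.symm.injective
    refine Subtype.ext (PrimeSpectrum.ext ?_)
    rw [OrderIso.symm_apply_apply, fiberIso_symm_apply]
    show Ideal.comap _ (Ideal.comap φ.toRingHom (w z).asIdeal) = P₀.asIdeal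
    rw [Ideal.comap_comap]
    refine Eq.trans ?_ (congrArg PrimeSpectrum.asIdeal (show PrimeSpectrum.comap (algebraMap P A) z.1 = P₀ from z.2))
    show _ = Ideal.comap (algebraMap P A) z.1.asIdeal
    have h1 : z.1.asIdeal = (w z).asIdeal.comap
        (Algebra.TensorProduct.includeRight (R := R) (A := k) (B := A)).toRingHom := by
      rw [← fiberIso_symm_apply A p₀ (w z), OrderIso.symm_apply_apply]
    rw [h1, Ideal.comap_comap]
    congr 1
  have hwinj : Function.Injective w := fun z z' h => Subtype.ext (congrArg (fun v => v.1) (eA.injective h))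
  haveI : Finite Z := by
    have hf := Algebra.QuasiFinite.finite_comap_preimage_singleton (S := C) (eP ⟨P₀, hP₀⟩)
    exact @Finite.of_injective _ _ hf.to_subtype (fun z => ⟨w z, hw z⟩)
      fun z z' h => hwinj (congrArg Subtype.val h)
  haveI : T1Space Z := ⟨fun z => by
    rw [← closure_subset_iff_isClosed]
    intro z' hz'
    have hle : z.1 ⤳ z'.1 := (specializes_iff_mem_closure.mpr hz').map continuous_subtype_val
    have hle' : w z ≤ w z' := eA.monotone (show z.1 ≤ z'.1 from (PrimeSpectrum.le_iff_specializes _ _).mpr hle)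
    exact (hwinj (PrimeSpectrum.ext (Algebra.QuasiFinite.eq_of_le_of_under_eq (R := p₀.asIdeal.Fiber P) _ _ hle'
      (congrArg PrimeSpectrum.asIdeal ((hw z).trans (hw z').symm))))).symm⟩
  haveI : Algebra.QuasiFiniteAt P q.asIdeal :=
    Algebra.QuasiFiniteAt.of_isOpen_singleton_fiber q (isOpen_discrete _)
  obtain ⟨r, hr, hqf⟩ := exists_quasiFinite_away (R := P) A q.asIdeal
  refine ⟨r, hr, fun p => ?_⟩
  haveI := hqf
  exact (fibre_dim_le_of_quasiFinite P (Localization.Away r) p).trans (dim_fiber_mvPolynomial n p).le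

end GrothLib.FibreDimAt6
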