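import Groth.Prelude.Def_Flat
import Groth.Agent.Lib.FibreDimAt6.Ring
import Groth.Agent.Lib.FibreDim6.Scheme

/-!
# Fibre dimension is upper semicontinuous on the source: schemes
-/

universe u

open CategoryTheory Limits AlgebraicGeometry TopologicalSpace

set_option linter.style.haveILetI false

noncomputable section

namespace GrothLib.FibreDimAt6

variable {X S : Scheme.{u}}

theorem dim_inter_fiber_eq (f : X ⟶ S) (s : S) (U : X.Opens) :
    topologicalKrullDim ↥((f.fiberι s) ⁻¹' (U : Set X)) = topologicalKrullDim ↥((U : Set X) ∩ f ⁻¹' {s}) := by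
  refine GrothLib.Dim.IsEmbedding.topologicalKrullDim_eq (f := fun z : (f.fiberι s) ⁻¹' (U : Set X) => f.fiberι s z.1)
    ((f.fiberι s).isEmbedding.comp Topology.IsEmbedding.subtypeVal) ?_
  ext x
  constructor
  · rintro ⟨⟨z, hz⟩, rfl⟩
    exact ⟨hz, (f.range_fiberι s).subset ⟨z, rfl⟩⟩
  · rintro ⟨hxU, hx⟩
    obtain ⟨z, rfl⟩ := (f.range_fiberι s).symm.subset hx
    exact ⟨⟨z, hxU⟩, rfl⟩

theorem fibreDimAt_le_of_open (f : X ⟶ S) (x : X) (U : X.Opens) (hx : x ∈ U) :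
    FlatMor.fibreDimAt f x ≤ topologicalKrullDim ↥((U : Set X) ∩ f ⁻¹' {f x}) := by
  refine le_trans (iInf_le _ ⟨(f.fiberι (f x)) ⁻¹ᵁ U, ?_⟩) (dim_inter_fiber_eq f (f x) U).le
  show f.fiberι (f x) (f.asFiber x) ∈ U
  rw [f.fiberι_asFiber]
  exact hx

theorem fibreDimAt_attained (f : X ⟶ S) (x : X) :
    ∃ U : X.Opens, x ∈ U ∧ topologicalKrullDim ↥((U : Set X) ∩ f ⁻¹' {f x}) = FlatMor.fibreDimAt f x := by
  let ι := {U : Opens ↥(f.fiber (f x)) // f.asFiber x ∈ U}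
  haveI : Nonempty ι := ⟨⟨⊤, trivial⟩⟩
  obtain ⟨⟨U, hU⟩, hdim⟩ := ciInf_mem (fun U : ι => topologicalKrullDim (U.1 : Set ↥(f.fiber (f x))))
  obtain ⟨W, hW, hWU⟩ := (f.fiberι (f x)).isEmbedding.isInducing.isOpen_iff.mp U.2
  refine ⟨⟨W, hW⟩, ?_, ?_⟩
  · show x ∈ W
    rw [← f.fiberι_asFiber x]
    exact hWU.symm.subset hU
  · rw [← dim_inter_fiber_eq f (f x) ⟨W, hW⟩]
    show topologicalKrullDim ↥((f.fiberι (f x)) ⁻¹' W) = _
    rw [hWU]
    exact hdim

/-- The trace of an affine piece on a fibre. -/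
theorem dim_trace {A R : Type u} [CommRing A] [CommRing R] [Algebra R A] (f : X ⟶ S)
    (j : Spec (CommRingCat.of A) ⟶ X) [IsOpenImmersion j] (i : Spec (CommRingCat.of R) ⟶ S) [IsOpenImmersion i]
    (h : j ≫ f = Spec.map (CommRingCat.ofHom (algebraMap R A)) ≫ i) (p : PrimeSpectrum R) :
    topologicalKrullDim ↥(Set.range j ∩ f ⁻¹' {i p}) = ringKrullDim (p.asIdeal.Fiber A) := by
  rw [← PrimeSpectrum.topologicalKrullDim_eq_ringKrullDim,
    ← IsHomeomorph.topologicalKrullDim_eq _ (PrimeSpectrum.preimageHomeomorphFiber R A p).isHomeomorph]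
  symm
  refine GrothLib.Dim.IsEmbedding.topologicalKrullDim_eq
    (f := fun z : (PrimeSpectrum.comap (algebraMap R A) ⁻¹' {p} : Set (PrimeSpectrum A)) => j z.1)
    (j.isEmbedding.comp Topology.IsEmbedding.subtypeVal) ?_
  have hfj : ∀ q : PrimeSpectrum A, f (j q) = i (PrimeSpectrum.comap (algebraMap R A) q) := fun q => by
    rw [← Scheme.Hom.comp_apply, h]
    rfl
  ext x
  constructor
  · rintro ⟨⟨q, hq⟩, rfl⟩
    refine ⟨⟨q, rfl⟩, ?_⟩
    show f (j q) = i p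
    rw [hfj]
    exact congrArg i hq
  · rintro ⟨⟨q, rfl⟩, hx⟩
    exact ⟨⟨q, i.isOpenEmbedding.injective ((hfj q).symm.trans hx)⟩, rfl⟩

theorem isOpen_fibreDimAt_le (f : X ⟶ S) [LocallyOfFiniteType f] (n : ℕ) :
    IsOpen {x : X | FlatMor.fibreDimAt f x ≤ (n : WithBot ℕ∞)} := by
  refine isOpen_iff_forall_mem_open.mpr fun x hx => ?_
  obtain ⟨U, hxU, hdim⟩ := fibreDimAt_attained f x
  obtain ⟨_, ⟨(V : S.Opens), hV, rfl⟩, hsV, -⟩ := S.isBasis_affineOpens.exists_subset_of_mem_open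
    (Set.mem_univ (f x)) isOpen_univ
  obtain ⟨_, ⟨(W : X.Opens), hW, rfl⟩, hxW, hsub⟩ := X.isBasis_affineOpens.exists_subset_of_mem_open
    (show x ∈ ((U ⊓ f ⁻¹ᵁ V : X.Opens) : Set X) from ⟨hxU, hsV⟩) (U ⊓ f ⁻¹ᵁ V).2
  have e : W ≤ f ⁻¹ᵁ V := fun y hy => (hsub hy).2
  letI := (f.appLE V W e).hom.toAlgebra
  haveI : Algebra.FiniteType Γ(S, V) Γ(X, W) :=
    HasRingHomProperty.appLE @LocallyOfFiniteType f inferInstance ⟨V, hV⟩ ⟨W, hW⟩ e
  have hsq : hW.fromSpec ≫ f = Spec.map (CommRingCat.ofHom (algebraMap Γ(S, V) Γ(X, W))) ≫ hV.fromSpec :=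
    (hV.SpecMap_appLE_fromSpec f hW e).symm
  obtain ⟨q, hq⟩ := hW.range_fromSpec.symm.subset hxW
  have hfx : f x = hV.fromSpec (PrimeSpectrum.comap (algebraMap Γ(S, V) Γ(X, W)) q) := by
    rw [← hq, ← Scheme.Hom.comp_apply, hsq]
    rfl
  have hle : ringKrullDim ((PrimeSpectrum.comap (algebraMap Γ(S, V) Γ(X, W)) q).asIdeal.Fiber Γ(X, W)) ≤
      (n : WithBot ℕ∞) := by
    rw [← dim_trace f hW.fromSpec hV.fromSpec hsq, hW.range_fromSpec, ← hfx]
    refine le_trans ?_ hx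
    rw [← hdim]
    have hsub' : (W : Set X) ∩ f ⁻¹' {f x} ⊆ (U : Set X) ∩ f ⁻¹' {f x} :=
      fun y hy => ⟨(hsub hy.1).1, hy.2⟩
    exact (Topology.IsEmbedding.inclusion hsub').isInducing.topologicalKrullDim_le
  obtain ⟨r, hr, hdimr⟩ := exists_away_dim_le Γ(X, W) q n hle
  let ℓ : Spec (CommRingCat.of (Localization.Away r)) ⟶ Spec Γ(X, W) :=
    Spec.map (CommRingCat.ofHom (algebraMap Γ(X, W) (Localization.Away r)))
  let j : Spec (CommRingCat.of (Localization.Away r)) ⟶ X := ℓ ≫ hW.fromSpec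
  haveI : IsOpenImmersion ℓ := IsOpenImmersion.of_isLocalization r
  have hj : j ≫ f = Spec.map (CommRingCat.ofHom (algebraMap Γ(S, V) (Localization.Away r))) ≫ hV.fromSpec := by
    rw [Category.assoc, hsq, ← Category.assoc, ← Spec.map_comp, ← CommRingCat.ofHom_comp,
      ← IsScalarTower.algebraMap_eq]
  refine ⟨j.opensRange, ?_, j.opensRange.2, ?_⟩
  · rintro _ ⟨q', rfl⟩
    refine le_trans (fibreDimAt_le_of_open f (j q') j.opensRange ⟨q', rfl⟩) ?_
    rw [show f (j q') = hV.fromSpec (PrimeSpectrum.comap (algebraMap Γ(S, V) (Localization.Away r)) q') by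
      rw [← Scheme.Hom.comp_apply, hj]; rfl, Scheme.Hom.coe_opensRange, dim_trace f j hV.fromSpec hj]
    exact hdimr _
  · obtain ⟨q', hq'⟩ := (PrimeSpectrum.localization_away_comap_range (Localization.Away r) r).symm.subset
      (show q ∈ (PrimeSpectrum.basicOpen r : Set (PrimeSpectrum Γ(X, W))) from hr)
    refine ⟨q', ?_⟩
    show hW.fromSpec (PrimeSpectrum.comap (algebraMap Γ(X, W) (Localization.Away r)) q') = x
    rw [hq', hq]

end GrothLib.FibreDimAt6
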