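import Groth.Prelude.Def_RegImm
import Groth.Agent.Lib.FibreDimAt6.Scheme
import Groth.Agent.Lib.AffDom.Formula

/-!
# The fibre dimension of a relative global complete intersection
-/

universe u

open scoped TensorProduct
open AlgebraicGeometry CategoryTheory

namespace GrothLib.FibreDimAt6

theorem fibreDimAt_specMap_eq {R A : Type u} [CommRing R] [CommRing A] [Algebra R A] (q : PrimeSpectrum A) (d : ℕ)
    (hle : ringKrullDim ((PrimeSpectrum.comap (algebraMap R A) q).asIdeal.Fiber A) ≤ (d : WithBot ℕ∞))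
    (hge : ∀ e ∉ q.asIdeal,
      (d : WithBot ℕ∞) ≤ ringKrullDim ((PrimeSpectrum.comap (algebraMap R A) q).asIdeal.Fiber (Localization.Away e))) :
    FlatMor.fibreDimAt (Spec.map (CommRingCat.ofHom (algebraMap R A))) q = (d : WithBot ℕ∞) := by
  let f := Spec.map (CommRingCat.ofHom (algebraMap R A))
  have hf : f q = PrimeSpectrum.comap (algebraMap R A) q := rfl
  refine le_antisymm ?_ ?_
  · refine le_trans (fibreDimAt_le_of_open f q ⊤ trivial) ?_
    have h := dim_trace f (𝟙 _) (𝟙 _) (by rw [Category.id_comp, Category.comp_id]) (f q)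
    simp only [Scheme.Hom.id_base, TopCat.id_app, TopCat.coe_id, Set.range_id] at h
    rw [TopologicalSpace.Opens.coe_top]
    refine le_of_eq_of_le ?_ hle
    refine Eq.trans ?_ h
    have hu : Set.range (⇑(𝟙 (Spec (CommRingCat.of A)) : Spec (CommRingCat.of A) ⟶ _)) = Set.univ :=
      Set.range_eq_univ.mpr fun z => ⟨z, rfl⟩
    exact congrArg (fun T : Set ↥(Spec (CommRingCat.of A)) => topologicalKrullDim ↥(T ∩ f ⁻¹' {f q})) hu.symm
  · obtain ⟨U, hxU, hU⟩ := fibreDimAt_attained f q
    obtain ⟨_, ⟨e, rfl⟩, he, hsubU⟩ := PrimeSpectrum.isTopologicalBasis_basic_opens.exists_subset_of_mem_open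
      (show q ∈ ((U : Set (Spec (CommRingCat.of A))) : Set (PrimeSpectrum A)) from hxU) U.2
    let ℓ : Spec (CommRingCat.of (Localization.Away e)) ⟶ Spec (CommRingCat.of A) :=
      Spec.map (CommRingCat.ofHom (algebraMap A (Localization.Away e)))
    haveI : IsOpenImmersion ℓ := IsOpenImmersion.of_isLocalization e
    have hr : Set.range ℓ = (PrimeSpectrum.basicOpen e : Set (PrimeSpectrum A)) :=
      PrimeSpectrum.localization_away_comap_range (Localization.Away e) e
    have hj : ℓ ≫ f = Spec.map (CommRingCat.ofHom (algebraMap R (Localization.Away e))) ≫ 𝟙 _ := by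
      rw [Category.comp_id, ← Spec.map_comp, ← CommRingCat.ofHom_comp, ← IsScalarTower.algebraMap_eq]
    rw [← hU]
    refine le_trans (hge e he) (le_of_eq_of_le (dim_trace f ℓ (𝟙 _) hj _).symm ?_)
    refine (Topology.IsEmbedding.inclusion ?_).isInducing.topologicalKrullDim_le
    rw [hr, Scheme.Hom.id_base, TopCat.id_app]
    exact Set.inter_subset_inter hsubU (le_of_eq (by rw [← hf]))

theorem dim_quotient_le_dim_away {R A : Type u} [CommRing R] [CommRing A] [Algebra R A] [Algebra.FiniteType R A]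
    (p : Ideal R) [p.IsPrime] (J : Ideal (p.Fiber A)) [J.IsPrime] (e : A)
    (he : (1 : p.ResidueField) ⊗ₜ[R] e ∉ J) :
    ringKrullDim (p.Fiber A ⧸ J) ≤ ringKrullDim (p.Fiber (Localization.Away e)) := by
  let κ := p.ResidueField
  let D := p.Fiber A ⧸ J
  let ē : D := Ideal.Quotient.mk J ((1 : κ) ⊗ₜ[R] e)
  have hne : ē ≠ 0 := fun h => he (Ideal.Quotient.eq_zero_iff_mem.mp h)
  let L := Localization.Away ē
  let π : p.Fiber A →ₐ[κ] L := (IsScalarTower.toAlgHom κ D L).comp (Ideal.Quotient.mkₐ κ J)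
  let g : A →ₐ[R] L := (π.restrictScalars R).comp Algebra.TensorProduct.includeRight
  have hg : IsUnit (g e) := IsLocalization.Away.algebraMap_isUnit ē
  let g' : Localization.Away e →ₐ[R] L := IsLocalization.liftAlgHom (M := Submonoid.powers e) (f := g) (by
    rintro ⟨y, k, rfl⟩
    rw [map_pow]
    exact hg.pow k)
  let h : p.Fiber (Localization.Away e) →ₐ[κ] L := Algebra.TensorProduct.lift (Algebra.ofId κ L) g' fun _ _ => Commute.all _ _
  have hπ : ∀ z : p.Fiber A, π z = h (Algebra.TensorProduct.map (AlgHom.id κ κ) (IsScalarTower.toAlgHom R A (Localization.Away e)) z) := by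
    intro z
    induction z using TensorProduct.induction_on with
    | zero => simp
    | add a b ha hb => simp only [map_add, ha, hb]
    | tmul a b =>
      rw [Algebra.TensorProduct.map_tmul, Algebra.TensorProduct.lift_tmul]
      simp only [AlgHom.id_apply, g', IsScalarTower.toAlgHom_apply, IsLocalization.liftAlgHom_apply,
        IsLocalization.lift_eq]
      show π (a ⊗ₜ[R] b) = Algebra.ofId κ L a * π ((1 : κ) ⊗ₜ[R] b)
      rw [Algebra.ofId_apply, ← Algebra.smul_def, ← map_smul, TensorProduct.smul_tmul', smul_eq_mul, mul_one]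
  have hsurj : Function.Surjective h := fun y => by
    obtain ⟨⟨d, s, k, hk⟩, hd⟩ := IsLocalization.surj (Submonoid.powers ē) y
    obtain ⟨z, rfl⟩ := Ideal.Quotient.mk_surjective d
    let w : p.Fiber (Localization.Away e) := (1 : κ) ⊗ₜ[R] IsLocalization.Away.invSelf e
    have hw : π ((1 : κ) ⊗ₜ[R] e) * h w = 1 := by
      have : h ((1 : κ) ⊗ₜ[R] algebraMap A (Localization.Away e) e * w) = 1 := by
        rw [Algebra.TensorProduct.tmul_mul_tmul, one_mul, IsLocalization.Away.mul_invSelf]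
        exact map_one h
      rw [map_mul] at this
      rw [← this]
      congr 1
      exact hπ ((1 : κ) ⊗ₜ[R] e)
    rw [show π ((1 : κ) ⊗ₜ[R] e) = algebraMap D L ē by
      simp only [π, ē, AlgHom.comp_apply, IsScalarTower.toAlgHom_apply, Ideal.Quotient.mkₐ_eq_mk]
      rfl] at hw
    refine ⟨Algebra.TensorProduct.map (AlgHom.id κ κ) (IsScalarTower.toAlgHom R A (Localization.Away e)) z * w ^ k, ?_⟩
    dsimp only at hd hk
    subst hk
    rw [map_pow] at hd
    rw [map_mul, map_pow, ← hπ]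
    simp only [π, AlgHom.comp_apply, IsScalarTower.toAlgHom_apply, Ideal.Quotient.mkₐ_eq_mk]
    rw [show Ideal.Quotient.mkₐ κ J z = Ideal.Quotient.mk J z from rfl, ← hd, mul_assoc, ← mul_pow, hw, one_pow, mul_one]
  refine le_trans (le_of_eq (GrothLib.Dim.ringKrullDim_away (k := κ) (A := D) ē hne L).symm) ?_
  exact ringKrullDim_le_of_surjective h.toRingHom hsurj

theorem dim_component_relGCI (R : Type u) [CommRing R] (n c : ℕ) (F : Fin c → MvPolynomial (Fin n) R)
    (A : Type u) [CommRing A] [Algebra R A] (π : MvPolynomial (Fin n) R →ₐ[R] A) (hπsurj : Function.Surjective π)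
    (hπker : RingHom.ker π.toRingHom = Ideal.span (Set.range F))
    (p : Ideal R) [p.IsPrime] (J : Ideal (p.Fiber A)) (hJ : J ∈ minimalPrimes (p.Fiber A)) :
    ((n - c : ℕ) : WithBot ℕ∞) ≤ ringKrullDim (p.Fiber A ⧸ J) := by
  classical
  haveI := hJ.1.1
  let κ := p.ResidueField
  let P := MvPolynomial (Fin n) R
  let Pκ := MvPolynomial (Fin n) κ
  let Fb : Set Pκ := Set.range fun i => MvPolynomial.map (algebraMap R κ) (F i)
  let φ : Pκ →ₐ[κ] p.Fiber A :=
    MvPolynomial.aeval fun i => ((1 : κ) ⊗ₜ[R] π (MvPolynomial.X i) : p.Fiber A)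
  have hφ : ∀ z : P, φ (MvPolynomial.map (algebraMap R κ) z) = (1 : κ) ⊗ₜ[R] π z := fun z => by
    induction z using MvPolynomial.induction_on with
    | C t =>
      rw [MvPolynomial.map_C, ← MvPolynomial.algebraMap_eq, AlgHom.commutes, ← MvPolynomial.algebraMap_eq, π.commutes]
      show algebraMap R κ t ⊗ₜ[R] (1 : A) = _
      rw [Algebra.algebraMap_eq_smul_one, TensorProduct.smul_tmul, ← Algebra.algebraMap_eq_smul_one]
    | add z z' hz hz' => simp only [map_add, TensorProduct.tmul_add, hz, hz']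
    | mul_X z i hz =>
      simp only [map_mul, MvPolynomial.map_X, hz]
      rw [show φ (MvPolynomial.X i) = (1 : κ) ⊗ₜ[R] π (MvPolynomial.X i) from MvPolynomial.aeval_X _ i,
        Algebra.TensorProduct.tmul_mul_tmul, one_mul]
  have hsurj : Function.Surjective φ := fun y => by
    induction y using TensorProduct.induction_on with
    | zero => exact ⟨0, map_zero φ⟩
    | add a b ha hb =>
      obtain ⟨a, rfl⟩ := ha
      obtain ⟨b, rfl⟩ := hb
      exact ⟨a + b, map_add φ a b⟩
    | tmul a b =>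
      obtain ⟨z, rfl⟩ := hπsurj b
      refine ⟨a • MvPolynomial.map (algebraMap R κ) z, ?_⟩
      rw [map_smul, hφ, TensorProduct.smul_tmul', smul_eq_mul, mul_one]
  let ev₀ : P →ₐ[R] Pκ ⧸ Ideal.span Fb := ((Ideal.Quotient.mkₐ κ (Ideal.span Fb)).restrictScalars R).comp
    (MvPolynomial.mapAlgHom (Algebra.ofId R κ))
  have hev₀ : ∀ a, π a = 0 → ev₀ a = 0 := fun a ha => by
    show Ideal.Quotient.mk _ (MvPolynomial.map (algebraMap R κ) a) = 0
    rw [Ideal.Quotient.eq_zero_iff_mem]
    have := Ideal.mem_map_of_mem (MvPolynomial.map (algebraMap R κ)) (hπker ▸ (show a ∈ RingHom.ker π.toRingHom from ha))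
    rw [Ideal.map_span, ← Set.range_comp] at this
    exact this
  let ev : A →ₐ[R] Pκ ⧸ Ideal.span Fb := (Ideal.Quotient.liftₐ (RingHom.ker π.toRingHom) ev₀ hev₀).comp
    (Ideal.quotientKerAlgEquivOfSurjective hπsurj).symm.toAlgHom
  have hev : ∀ z : P, ev (π z) = ev₀ z := fun z => by
    show Ideal.Quotient.liftₐ (RingHom.ker π.toRingHom) ev₀ hev₀ ((Ideal.quotientKerAlgEquivOfSurjective hπsurj).symm (π z)) = _
    rw [show (Ideal.quotientKerAlgEquivOfSurjective hπsurj).symm (π z) = Ideal.Quotient.mk _ z from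
      (Ideal.quotientKerAlgEquivOfSurjective hπsurj).symm_apply_eq.mpr rfl]
    rfl
  let θ : p.Fiber A →ₐ[κ] Pκ ⧸ Ideal.span Fb :=
    Algebra.TensorProduct.lift (Algebra.ofId κ _) ev fun _ _ => Commute.all _ _
  have hθ : θ.comp φ = Ideal.Quotient.mkₐ κ (Ideal.span Fb) := MvPolynomial.algHom_ext fun i => by
    rw [AlgHom.comp_apply, show φ (MvPolynomial.X i) = (1 : κ) ⊗ₜ[R] π (MvPolynomial.X i) from
      MvPolynomial.aeval_X _ i, Algebra.TensorProduct.lift_tmul, map_one, one_mul, hev]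
    show Ideal.Quotient.mk _ (MvPolynomial.map (algebraMap R κ) (MvPolynomial.X i)) = _
    rw [MvPolynomial.map_X]
    rfl
  have hker : RingHom.ker φ.toRingHom = Ideal.span Fb := by
    refine le_antisymm (fun x hx => ?_) (Ideal.span_le.mpr ?_)
    · rw [← Ideal.Quotient.eq_zero_iff_mem]
      have := DFunLike.congr_fun hθ x
      rw [AlgHom.comp_apply, show φ x = 0 from hx, map_zero] at this
      exact this.symm
    · rintro _ ⟨i, rfl⟩
      show φ _ = 0
      rw [hφ, show π (F i) = 0 from (show F i ∈ RingHom.ker π.toRingHom from hπker ▸ Ideal.subset_span ⟨i, rfl⟩), TensorProduct.tmul_zero]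
  let Q := J.comap φ.toRingHom
  have hQ : Q ∈ (Ideal.span Fb).minimalPrimes := by
    rw [← hker, RingHom.ker_eq_comap_bot, Ideal.comap_minimalPrimes_eq_of_surjective (f := φ.toRingHom) hsurj]
    exact ⟨J, hJ, rfl⟩
  haveI : Q.IsPrime := hQ.1.1
  have hc : Q.height ≤ (c : ℕ∞) := by
    refine (Ideal.height_le_card_of_mem_minimalPrimes_span (Set.finite_range _) hQ).trans ?_
    refine Nat.cast_le.mpr (le_trans (Set.ncard_le_ncard ?_ (Finset.univ.image fun i => MvPolynomial.map (algebraMap R κ) (F i)).finite_toSet) ?_)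
    · intro x hx
      simpa [Fb] using hx
    · rw [Set.ncard_coe_finset]
      exact Finset.card_image_le.trans (by simp)
  have hn := GrothLib.AffDom.height_add_ringKrullDim_quotient κ Pκ Q
  rw [MvPolynomial.ringKrullDim_of_isNoetherianRing, ringKrullDim_eq_zero_of_field] at hn
  have he : ringKrullDim (Pκ ⧸ Q) ≤ ringKrullDim (p.Fiber A ⧸ J) :=
    le_of_eq (ringKrullDim_eq_of_ringEquiv (RingEquiv.ofBijective (Ideal.quotientMap J φ.toRingHom le_rfl)
      ⟨Ideal.quotientMap_injective, Ideal.quotientMap_surjective hsurj⟩))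
  refine le_trans ?_ he
  obtain ⟨h, hh⟩ := WithTop.ne_top_iff_exists.mp (ne_top_of_le_ne_top (WithTop.natCast_ne_top c) hc)
  obtain ⟨d, -, hd⟩ := GrothLib.Dim.exists_nat_trdeg_eq_and_ringKrullDim_eq (k := κ) (A := Pκ ⧸ Q)
  rw [← hh] at hn hc
  rw [hd] at hn ⊢
  have h1 : h ≤ c := WithTop.coe_le_coe.mp hc
  have h2 : h + d = n := by
    rw [Nat.card_fin, zero_add] at hn
    exact WithTop.coe_injective (WithBot.coe_injective hn)
  exact_mod_cast (show n - c ≤ d by omega)

theorem fibreDimAt_relGCI (R : Type u) [CommRing R] (n c : ℕ) (F : Fin c → MvPolynomial (Fin n) R)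
    (hF : Synt.IsRelGCI R n c F) (x : PrimeSpectrum (Synt.RelGCIRing R n c F)) :
    FlatMor.fibreDimAt (Spec.map (CommRingCat.ofHom (algebraMap R (Synt.RelGCIRing R n c F)))) x =
      ((n - c : ℕ) : WithBot ℕ∞) := by
  let A := Synt.RelGCIRing R n c F
  let p := PrimeSpectrum.comap (algebraMap R A) x
  let z : PrimeSpectrum (p.asIdeal.Fiber A) := PrimeSpectrum.preimageOrderIsoFiber R A p ⟨x, rfl⟩
  haveI : Nontrivial (p.asIdeal.Fiber A) :=
    ⟨⟨0, 1, fun h => z.2.ne_top ((Ideal.eq_top_iff_one _).mpr (h ▸ Submodule.zero_mem _))⟩⟩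
  refine fibreDimAt_specMap_eq x _ (hF p inferInstance).2.le fun e he => ?_
  obtain ⟨J, hJ, hJz⟩ := Ideal.exists_minimalPrimes_le (I := (⊥ : Ideal (p.asIdeal.Fiber A))) (J := z.asIdeal) bot_le
  haveI := hJ.1.1
  refine le_trans (dim_component_relGCI R n c F A (Ideal.Quotient.mkₐ R _) Ideal.Quotient.mk_surjective (Ideal.Quotient.mkₐ_ker R _) p.asIdeal J hJ) (dim_quotient_le_dim_away p.asIdeal J e fun h => ?_)
  apply he
  have hz : z.asIdeal.comap (Algebra.TensorProduct.includeRight (R := R) (A := p.asIdeal.ResidueField) (B := A)).toRingHom =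
      x.asIdeal := by
    rw [← fiberIso_symm_apply A p z, OrderIso.symm_apply_apply]
  rw [← hz]
  exact hJz h

end GrothLib.FibreDimAt6
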