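import Groth.Agent.Lib.FibreDimAt6.Scheme
import Mathlib.AlgebraicGeometry.Morphisms.Proper

/-!
# Fibre dimension of a proper morphism is upper semicontinuous on the target
-/

universe u

open CategoryTheory Limits AlgebraicGeometry TopologicalSpace

noncomputable section

namespace GrothLib.FibreDimAt6

variable {X S : Scheme.{u}}

theorem dim_fiber_le_iff (f : X ⟶ S) (s : S) (n : WithBot ℕ∞) :
    topologicalKrullDim ↥(f.fiber s) ≤ n ↔ ∀ x, f x = s → FlatMor.fibreDimAt f x ≤ n := by
  constructor
  · rintro h x rfl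
    refine le_trans (le_trans (fibreDimAt_le_of_open f x ⊤ trivial) ?_) h
    rw [← dim_inter_fiber_eq f (f x) ⊤]
    exact topologicalKrullDim_subspace_le _ _
  · intro h
    choose U hxU hU using fun z : ↥(f.fiber s) => fibreDimAt_attained f (f.fiberι s z)
    refine GrothLib.Dim.topologicalKrullDim_le_of_cover (fun z => (f.fiberι s) ⁻¹ᵁ U z) (fun z => ⟨z, hxU z⟩) fun z => ?_
    have hz : f (f.fiberι s z) = s := (f.range_fiberι s).subset ⟨z, rfl⟩
    refine le_trans (le_of_eq ?_) (h _ hz)
    rw [← hU z]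
    refine (dim_inter_fiber_eq f s (U z)).trans ?_
    rw [hz]

theorem isOpen_dim_fiber_le (f : X ⟶ S) [IsProper f] (c : WithBot ℕ∞) :
    IsOpen {s : S | topologicalKrullDim ↥(f.fiber s) ≤ c} := by
  induction c using WithBot.recBotCoe with
  | bot =>
    have : {s : S | topologicalKrullDim ↥(f.fiber s) ≤ ⊥} = (Set.range f)ᶜ := by
      ext s
      rw [Set.mem_setOf_eq, Set.mem_compl_iff, le_bot_iff, topologicalKrullDim, Order.krullDim_eq_bot_iff]
      constructor
      · rintro hempty ⟨x, rfl⟩
        exact hempty.false ⟨closure {f.asFiber x}, isIrreducible_singleton.closure, isClosed_closure⟩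
      · intro hs
        refine ⟨fun Z => ?_⟩
        obtain ⟨z, -⟩ := Z.isIrreducible.nonempty
        exact hs ⟨f.fiberι s z, (f.range_fiberι s).subset ⟨z, rfl⟩⟩
    rw [this]
    exact f.isClosedMap.isClosed_range.isOpen_compl
  | coe c =>
    induction c using ENat.recTopCoe with
    | top =>
      have : {s : S | topologicalKrullDim ↥(f.fiber s) ≤ ((⊤ : ℕ∞) : WithBot ℕ∞)} = Set.univ :=
        Set.eq_univ_of_forall fun s => show topologicalKrullDim ↥(f.fiber s) ≤ (⊤ : WithBot ℕ∞) from le_top
      rw [this]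
      exact isOpen_univ
    | coe n =>
      have : {s : S | topologicalKrullDim ↥(f.fiber s) ≤ ((n : ℕ∞) : WithBot ℕ∞)} =
          (f '' {x | FlatMor.fibreDimAt f x ≤ (n : WithBot ℕ∞)}ᶜ)ᶜ := by
        ext s
        rw [Set.mem_setOf_eq, Set.mem_compl_iff, dim_fiber_le_iff]
        constructor
        · rintro h ⟨x, hx, hxs⟩
          exact hx (h x hxs)
        · exact fun h x hxs => not_not.mp fun hx => h ⟨x, hx, hxs⟩
      rw [this]
      exact (f.isClosedMap _ (isOpen_fibreDimAt_le f n).isClosed_compl).isOpen_compl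

end GrothLib.FibreDimAt6
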