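import Groth.Agent.Lib.FibreDimAt6.Generic

/-!
# Fibre dimension along generizations of the generic point of a component of a fibre
-/

universe u

open AlgebraicGeometry CategoryTheory Limits

namespace GrothLib.FibreDimAt6

variable {X S : Scheme.{u}}

theorem fibreDimAt_le_of_specializes (f : X ⟶ S) [LocallyOfFiniteType f] {x x' : X} (h : x' ⤳ x) (n : ℕ)
    (hn : FlatMor.fibreDimAt f x ≤ (n : WithBot ℕ∞)) : FlatMor.fibreDimAt f x' ≤ (n : WithBot ℕ∞) :=
  h.mem_open (isOpen_fibreDimAt_le f n) hn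

theorem fibreDimAt_eq_of_specializes (f : X ⟶ S) [Flat f] [LocallyOfFinitePresentation f] (x x' : X)
    (hsp : x' ⤳ x) (hmax : ∀ y, f y = f x → y ⤳ x → y = x) :
    FlatMor.fibreDimAt f x' = FlatMor.fibreDimAt f x := by
  obtain ⟨_, ⟨(V : S.Opens), hV, rfl⟩, hsV, -⟩ := S.isBasis_affineOpens.exists_subset_of_mem_open
    (Set.mem_univ (f x)) isOpen_univ
  obtain ⟨_, ⟨(W : X.Opens), hW, rfl⟩, hxW, hsub⟩ := X.isBasis_affineOpens.exists_subset_of_mem_open
    (show x ∈ f ⁻¹ᵁ V from hsV) (f ⁻¹ᵁ V).2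
  let R : CommRingCat.{u} := Γ(S, V)
  let A : CommRingCat.{u} := Γ(X, W)
  letI := (f.appLE V W hsub).hom.toAlgebra
  haveI : Algebra.FinitePresentation R A :=
    HasRingHomProperty.appLE @LocallyOfFinitePresentation f inferInstance ⟨V, hV⟩ ⟨W, hW⟩ hsub
  haveI : Module.Flat R A := HasRingHomProperty.appLE @Flat f inferInstance ⟨V, hV⟩ ⟨W, hW⟩ hsub
  have hsq : hW.fromSpec ≫ f = Spec.map (CommRingCat.ofHom (algebraMap R A)) ≫ hV.fromSpec :=
    (hV.SpecMap_appLE_fromSpec f hW hsub).symm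
  have hfs : ∀ q : PrimeSpectrum A, f (hW.fromSpec q) = hV.fromSpec (PrimeSpectrum.comap (algebraMap R A) q) :=
    fun q => by
      rw [← Scheme.Hom.comp_apply, hsq]
      rfl
  obtain ⟨q, hq⟩ : ∃ q : PrimeSpectrum A, hW.fromSpec q = x := hW.range_fromSpec.symm.subset hxW
  obtain ⟨q', hq'⟩ : ∃ q' : PrimeSpectrum A, hW.fromSpec q' = x' :=
    hW.range_fromSpec.symm.subset (show x' ∈ (W : Set X) from hsp.mem_open W.2 hxW)
  have hle : q' ≤ q := (PrimeSpectrum.le_iff_specializes _ _).mpr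
    (hW.fromSpec.isOpenEmbedding.isInducing.specializes_iff.mp
      (show hW.fromSpec q' ⤳ hW.fromSpec q by rw [hq, hq']; exact hsp))
  obtain ⟨d, b, hb, ⟨c, hc, hdim⟩, hlow⟩ := exists_fibreDim_between (R := R) q fun z hz hzp => by
    have := hmax (hW.fromSpec z) (by rw [← hq, hfs, hfs, hzp])
      (hq ▸ ((PrimeSpectrum.le_iff_specializes _ _).mp hz).map hW.fromSpec.continuous)
    exact hW.fromSpec.isOpenEmbedding.injective (this.trans hq.symm)
  have key : ∀ (e : A), ∃ j : Spec (CommRingCat.of (Localization.Away e)) ⟶ X, ∃ _ : IsOpenImmersion j,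
      Set.range j = hW.fromSpec '' (PrimeSpectrum.basicOpen e : Set (PrimeSpectrum A)) ∧
      j ≫ f = Spec.map (CommRingCat.ofHom (algebraMap R (Localization.Away e))) ≫ hV.fromSpec := fun e => by
    let ℓ : Spec (CommRingCat.of (Localization.Away e)) ⟶ Spec A :=
      Spec.map (CommRingCat.ofHom (algebraMap A (Localization.Away e)))
    haveI : IsOpenImmersion ℓ := IsOpenImmersion.of_isLocalization e
    refine ⟨ℓ ≫ hW.fromSpec, inferInstance, ?_, ?_⟩
    · rw [Scheme.Hom.comp_base, TopCat.coe_comp, Set.range_comp]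
      exact congrArg _ (PrimeSpectrum.localization_away_comap_range (Localization.Away e) e)
    · rw [Category.assoc, hsq, ← Category.assoc, ← Spec.map_comp, ← CommRingCat.ofHom_comp,
        ← IsScalarTower.algebraMap_eq]
  have hd : FlatMor.fibreDimAt f x ≤ (d : WithBot ℕ∞) := by
    obtain ⟨j, _, hr, hj⟩ := key c
    refine le_trans (fibreDimAt_le_of_open f x j.opensRange (show x ∈ Set.range j from hr ▸ ⟨q, hc, hq⟩)) ?_
    rw [Scheme.Hom.coe_opensRange, ← hq, hfs, dim_trace f j hV.fromSpec hj]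
    exact hdim
  refine le_antisymm ((fibreDimAt_le_of_specializes f hsp d hd).trans ?_) (hd.trans ?_)
  · -- lower bound at `x`
    obtain ⟨U, hxU, hU⟩ := fibreDimAt_attained f x
    obtain ⟨_, ⟨e, rfl⟩, he, hsubU⟩ := PrimeSpectrum.isTopologicalBasis_basic_opens.exists_subset_of_mem_open
      (show q ∈ (hW.fromSpec ⁻¹' (U : Set X) : Set (PrimeSpectrum A)) from (congrArg (· ∈ (U : Set X)) hq).mpr hxU)
      (U.2.preimage hW.fromSpec.continuous)
    obtain ⟨j, _, hr, hj⟩ := key e
    rw [← hU]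
    refine le_trans (hlow q hb e he) (le_of_eq_of_le (dim_trace f j hV.fromSpec hj _).symm ?_)
    have hsub' : Set.range j ∩ f ⁻¹' {hV.fromSpec (PrimeSpectrum.comap (algebraMap R A) q)} ⊆
        (U : Set X) ∩ f ⁻¹' {f x} := by
      rw [← hq, hfs, hr]
      exact Set.inter_subset_inter_left _ (Set.image_subset_iff.mpr hsubU)
    exact (Topology.IsEmbedding.inclusion hsub').isInducing.topologicalKrullDim_le
  · obtain ⟨U, hxU, hU⟩ := fibreDimAt_attained f x'
    obtain ⟨_, ⟨e, rfl⟩, he, hsubU⟩ := PrimeSpectrum.isTopologicalBasis_basic_opens.exists_subset_of_mem_open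
      (show q' ∈ (hW.fromSpec ⁻¹' (U : Set X) : Set (PrimeSpectrum A)) from (congrArg (· ∈ (U : Set X)) hq').mpr hxU)
      (U.2.preimage hW.fromSpec.continuous)
    obtain ⟨j, _, hr, hj⟩ := key e
    rw [← hU]
    refine le_trans (hlow q' (fun h => hb (hle h)) e he) (le_of_eq_of_le (dim_trace f j hV.fromSpec hj _).symm ?_)
    have hsub' : Set.range j ∩ f ⁻¹' {hV.fromSpec (PrimeSpectrum.comap (algebraMap R A) q')} ⊆
        (U : Set X) ∩ f ⁻¹' {f x'} := by
      rw [← hq', hfs, hr]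
      exact Set.inter_subset_inter_left _ (Set.image_subset_iff.mpr hsubU)
    exact (Topology.IsEmbedding.inclusion hsub').isInducing.topologicalKrullDim_le

theorem eq_of_isGenericPoint_component (f : X ⟶ S) (x : X)
    (hgen : ∃ Z ∈ irreducibleComponents ↥(f.fiber (f x)), IsGenericPoint (f.asFiber x) Z) :
    ∀ y, f y = f x → y ⤳ x → y = x := by
  obtain ⟨Z, hZ, hx⟩ := hgen
  intro y hy hyx
  obtain ⟨w, hw⟩ := (f.range_fiberι (f x)).superset hy
  have hwx : w ⤳ f.asFiber x := (f.fiberι (f x)).isEmbedding.isInducing.specializes_iff.mp (by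
    rw [hw, f.fiberι_asFiber]; exact hyx)
  have hsub : Z ≤ closure {w} := fun z hz => specializes_iff_mem_closure.mp (hwx.trans (hx.specializes hz))
  have hxw : f.asFiber x ⤳ w := hx.specializes (hZ.2 isIrreducible_singleton.closure hsub (subset_closure rfl))
  rw [← hw, (hwx.antisymm hxw).eq, f.fiberι_asFiber]

end GrothLib.FibreDimAt6
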