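import Groth.Agent.Lib.FibreDimAt6.Flat

/-!
# Fibres of a domain over a valuation ring
-/

universe u

open TensorProduct

set_option linter.style.haveILetI false

noncomputable section

namespace GrothLib.FibreDimAt6

theorem dim_special_eq_generic (R S : Type u) [CommRing R] [IsDomain R] [ValuationRing R] [CommRing S] [IsDomain S]
    [Algebra R S] (hinj : Function.Injective (algebraMap R S)) [Algebra.FiniteType R S]
    [Nontrivial (IsLocalRing.ResidueField R ⊗[R] S)] :
    ringKrullDim (IsLocalRing.ResidueField R ⊗[R] S) = ringKrullDim (FractionRing R ⊗[R] S) := by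
  let K := FractionRing R
  let k := IsLocalRing.ResidueField R
  have htf : ∀ c : R, c ≠ 0 → ∀ a : S, c • a = 0 → a = 0 := fun c hc a h => by
    rw [Algebra.smul_def] at h
    exact (mul_eq_zero.mp h).resolve_left fun h0 => hc (hinj (h0.trans (map_zero _).symm))
  refine le_antisymm (dim_special_le_generic R S K htf) ?_
  obtain ⟨m, g, hg, hgfin⟩ := exists_finite_inj_algHom_of_fg k (k ⊗[R] S)
  have hdim : ringKrullDim (k ⊗[R] S) = (m : WithBot ℕ∞) := by
    letI := g.toRingHom.toAlgebra
    haveI : Algebra.IsIntegral (MvPolynomial (Fin m) k) (k ⊗[R] S) := ⟨fun x => hgfin.to_isIntegral x⟩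
    rw [GrothLib.Dim.ringKrullDim_eq_of_isIntegral (R := MvPolynomial (Fin m) k) (S := k ⊗[R] S) hg,
      MvPolynomial.ringKrullDim_of_isNoetherianRing, ringKrullDim_eq_zero_of_field]
    simp
  obtain ⟨P⟩ := (inferInstance : Nonempty (PrimeSpectrum (k ⊗[R] S)))
  let q := PrimeSpectrum.comap (Algebra.TensorProduct.includeRight (R := R) (A := k) (B := S)).toRingHom P
  have hq : PrimeSpectrum.comap (algebraMap R S) q = IsLocalRing.closedPoint R := by
    have h1 : PrimeSpectrum.comap (algebraMap R S) q =
        PrimeSpectrum.comap (algebraMap R k) (PrimeSpectrum.comap (algebraMap k (k ⊗[R] S)) P) := by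
      rw [← PrimeSpectrum.comap_comp_apply, ← PrimeSpectrum.comap_comp_apply, ← IsScalarTower.algebraMap_eq]
      exact congrArg (fun φ => PrimeSpectrum.comap φ P)
        (Algebra.TensorProduct.includeRight (R := R) (A := k) (B := S)).comp_algebraMap
    rw [h1]
    haveI : IsLocalHom (algebraMap R k) := inferInstanceAs (IsLocalHom (IsLocalRing.residue R))
    rw [show PrimeSpectrum.comap (algebraMap k (k ⊗[R] S)) P = IsLocalRing.closedPoint k from Subsingleton.elim _ _]
    exact IsLocalRing.comap_closedPoint _
  obtain ⟨r, hr, hle⟩ := exists_away_dim_le S q m (by rw [hq, ← fiber_closed_eq, hdim])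
  have hr0 : r ≠ 0 := fun h => hr (h ▸ q.asIdeal.zero_mem)
  have hg' := hle ⟨⊥, Ideal.isPrime_bot⟩
  rw [← fiber_generic_eq] at hg'
  -- the generic fibre is a domain
  haveI : FaithfulSMul R S := (faithfulSMul_iff_algebraMap_injective R S).mpr hinj
  haveI : FaithfulSMul R (FractionRing S) := (faithfulSMul_iff_algebraMap_injective R _).mpr (by
    rw [IsScalarTower.algebraMap_eq R S (FractionRing S)]
    exact (IsFractionRing.injective S (FractionRing S)).comp hinj)
  letI : Algebra K (FractionRing S) := FractionRing.liftAlgebra R (FractionRing S)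
  haveI : IsScalarTower R K (FractionRing S) := FractionRing.isScalarTower_liftAlgebra R (FractionRing S)
  let θ : K ⊗[R] S →ₐ[K] FractionRing S :=
    Algebra.TensorProduct.lift (Algebra.ofId K _) (IsScalarTower.toAlgHom R S (FractionRing S)) fun _ _ => .all _ _
  haveI : IsDomain (K ⊗[R] S) := by
    refine Function.Injective.isDomain (f := θ) ((injective_iff_map_eq_zero θ).mpr fun z hz => ?_)
    obtain ⟨⟨a, c⟩, hac⟩ := IsLocalizedModule.surj (nonZeroDivisors R) (TensorProduct.mk R K S 1) z
    have h1 : θ ((c : R) • z) = θ ((1 : K) ⊗ₜ[R] a) := congrArg θ hac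
    have h2 : a = 0 := by
      apply IsFractionRing.injective S (FractionRing S)
      rw [map_zero]
      have : θ ((1 : K) ⊗ₜ[R] a) = algebraMap S (FractionRing S) a := by simp [θ]
      rw [← this, ← h1, ← algebraMap_smul K (c : R) z, map_smul, hz, smul_zero]
    have h3 : algebraMap R K c • z = 0 := by
      rw [algebraMap_smul]
      exact hac.trans (by rw [h2]; exact TensorProduct.tmul_zero _ _)
    exact (smul_eq_zero.mp h3).resolve_left (IsFractionRing.to_map_ne_zero_of_mem_nonZeroDivisors c.2)
  let M := (Submonoid.powers r).map (Algebra.TensorProduct.includeRight (R := R) (A := K) (B := S))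
  let eM := IsLocalization.tensorProductEquivOfMapIncludeRight R K (Submonoid.powers r) (Localization.Away r) (Localization M)
  haveI : IsLocalization.Away ((1 : K) ⊗ₜ[R] r) (Localization M) := by
    show IsLocalization (Submonoid.powers _) _
    rw [show Submonoid.powers ((1 : K) ⊗ₜ[R] r) = M from
      (Submonoid.map_powers (Algebra.TensorProduct.includeRight (R := R) (A := K) (B := S)) r).symm]
    infer_instance
  have hne : (1 : K) ⊗ₜ[R] r ≠ 0 := fun h => hr0 (IsFractionRing.injective S (FractionRing S) (by
    have := congrArg θ h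
    simpa [θ] using this))
  rw [hdim, ← GrothLib.Dim.ringKrullDim_away K (K ⊗[R] S) _ hne (Localization M),
    ← ringKrullDim_eq_of_ringEquiv eM.toRingEquiv]
  exact hg'

end GrothLib.FibreDimAt6
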