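import Groth.Agent.Lib.Dim.Ring
import Mathlib.RingTheory.Valuation.ValuationRing
import Mathlib.RingTheory.TensorProduct.MvPolynomial
import Mathlib.RingTheory.LocalRing.ResidueField.Basic
import Mathlib.RingTheory.Ideal.MinimalPrime.Basic
import Mathlib.RingTheory.FiniteStability
import Mathlib.Algebra.MvPolynomial.NoZeroDivisors

/-!
# Over a valuation ring the special fibre has at most the dimension of the generic one
-/

universe u

open TensorProduct Cardinal

set_option linter.style.haveILetI false

noncomputable section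

namespace GrothLib.FibreDimAt6

theorem le_dim_of_injective (K B : Type u) [Field K] [CommRing B] [Algebra K B] [Algebra.FiniteType K B] (m : ℕ)
    (g : MvPolynomial (Fin m) K →ₐ[K] B) (hg : Function.Injective g) : (m : WithBot ℕ∞) ≤ ringKrullDim B := by
  obtain ⟨Q, hQ, hQg⟩ := Ideal.exists_minimalPrimes_comap_eq g.toRingHom (⊥ : Ideal (MvPolynomial (Fin m) K))
    (I := (⊥ : Ideal B)) (by
      rw [← RingHom.ker_eq_comap_bot, (RingHom.injective_iff_ker_eq_bot g.toRingHom).1 hg]
      exact ⟨⟨Ideal.isPrime_bot, le_rfl⟩, fun J hJ _ => bot_le⟩)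
  haveI : Q.IsPrime := hQ.1.1
  obtain ⟨n, htr, hdim⟩ := GrothLib.Dim.exists_nat_trdeg_eq_and_ringKrullDim_eq K (B ⧸ Q)
  let g' : MvPolynomial (Fin m) K →ₐ[K] B ⧸ Q := (Ideal.Quotient.mkₐ K Q).comp g
  have hind : AlgebraicIndependent K fun i => g' (MvPolynomial.X i) := by
    rw [AlgebraicIndependent, show MvPolynomial.aeval (fun i => g' (MvPolynomial.X i)) = g' from
      (MvPolynomial.aeval_unique g').symm]
    refine (injective_iff_map_eq_zero g').mpr fun x hx => ?_
    have : x ∈ Q.comap g.toRingHom := show g x ∈ Q from Ideal.Quotient.eq_zero_iff_mem.mp hx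
    rw [hQg] at this
    exact this
  have hle := hind.lift_cardinalMk_le_trdeg
  rw [htr] at hle
  simp only [Cardinal.mk_fin, Cardinal.lift_natCast, Nat.cast_le] at hle
  refine le_trans ?_ (ringKrullDim_quotient_le Q)
  rw [hdim]
  exact_mod_cast hle

theorem exists_dvd_coeff {V : Type u} [CommRing V] [IsDomain V] [ValuationRing V] {σ : Type}
    (P : MvPolynomial σ V) (hP : P ≠ 0) :
    ∃ m₀ ∈ P.support, ∀ m, P.coeff m₀ ∣ P.coeff m := by
  classical
  suffices ∀ s : Finset (σ →₀ ℕ), s.Nonempty → ∃ m₀ ∈ s, ∀ m ∈ s, P.coeff m₀ ∣ P.coeff m by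
    obtain ⟨m₀, h₀, h⟩ := this P.support (MvPolynomial.support_nonempty.mpr hP)
    exact ⟨m₀, h₀, fun m => if hm : m ∈ P.support then h m hm else by
      rw [MvPolynomial.notMem_support_iff.mp hm]; exact dvd_zero _⟩
  intro s hs
  induction hs using Finset.Nonempty.cons_induction with
  | singleton a => exact ⟨a, by simp, by simp⟩
  | cons a s ha hs ih =>
    obtain ⟨m₀, h₀, h⟩ := ih
    rcases ValuationRing.dvd_total (P.coeff a) (P.coeff m₀) with hd | hd
    · refine ⟨a, by simp, fun m hm => ?_⟩
      rcases Finset.mem_cons.mp hm with rfl | hm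
      · exact dvd_rfl
      · exact hd.trans (h m hm)
    · refine ⟨m₀, by simp [h₀], fun m hm => ?_⟩
      rcases Finset.mem_cons.mp hm with rfl | hm
      · exact hd
      · exact h m hm

/-- Over a valuation ring the special fibre of a torsion free algebra has at most the generic dimension. -/
theorem dim_special_le_generic (V A K : Type u) [CommRing V] [IsDomain V] [ValuationRing V] [CommRing A]
    [Algebra V A] [Algebra.FiniteType V A] [Field K] [Algebra V K] [IsFractionRing V K]
    (htf : ∀ (c : V), c ≠ 0 → ∀ a : A, c • a = 0 → a = 0) :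
    ringKrullDim (IsLocalRing.ResidueField V ⊗[V] A) ≤ ringKrullDim (K ⊗[V] A) := by
  let k := IsLocalRing.ResidueField V
  let C := k ⊗[V] A
  haveI : Algebra.FiniteType k C := inferInstanceAs (Algebra.FiniteType (IsLocalRing.ResidueField V) (IsLocalRing.ResidueField V ⊗[V] A))
  rcases subsingleton_or_nontrivial C with h | h
  · exact le_of_eq_of_le ringKrullDim_eq_bot_of_subsingleton bot_le
  obtain ⟨m, g, hg, hgfin⟩ := exists_finite_inj_algHom_of_fg k C
  have hdim : ringKrullDim C = (m : WithBot ℕ∞) := by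
    letI := g.toRingHom.toAlgebra
    haveI : Algebra.IsIntegral (MvPolynomial (Fin m) k) C := ⟨fun x => hgfin.to_isIntegral x⟩
    rw [GrothLib.Dim.ringKrullDim_eq_of_isIntegral (R := MvPolynomial (Fin m) k) (S := C) hg,
      MvPolynomial.ringKrullDim_of_isNoetherianRing, ringKrullDim_eq_zero_of_field]
    simp
  have hsurj : Function.Surjective (Algebra.TensorProduct.includeRight (R := V) (A := k) (B := A)) := by
    intro z
    induction z using TensorProduct.induction_on with
    | zero => exact ⟨0, map_zero _⟩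
    | add x y hx hy =>
      obtain ⟨a, rfl⟩ := hx
      obtain ⟨b, rfl⟩ := hy
      exact ⟨a + b, map_add _ _ _⟩
    | tmul c a =>
      obtain ⟨v, rfl⟩ := IsLocalRing.residue_surjective c
      exact ⟨v • a, by
        rw [Algebra.TensorProduct.includeRight_apply, TensorProduct.tmul_smul, TensorProduct.smul_tmul']
        congr 1
        rw [Algebra.smul_def, mul_one]
        rfl⟩
  choose t ht using fun i : Fin m => hsurj (g (MvPolynomial.X i))
  let ψ : MvPolynomial (Fin m) V →ₐ[V] A := MvPolynomial.aeval t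
  have hcomp : ∀ Q, g (Q.map (algebraMap V k)) = (1 : k) ⊗ₜ[V] ψ Q := fun Q => by
    rw [show g (Q.map (algebraMap V k)) = MvPolynomial.aeval (R := k) (fun i => g (MvPolynomial.X i)) (Q.map (algebraMap V k)) from
      congr($(MvPolynomial.aeval_unique g) _), MvPolynomial.aeval_map_algebraMap]
    have : MvPolynomial.aeval (R := V) (fun i => g (MvPolynomial.X i)) =
        (Algebra.TensorProduct.includeRight (R := V) (A := k)).comp ψ :=
      MvPolynomial.algHom_ext fun i => by simp [ψ, ← ht i]
    exact congr($this Q)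
  have hψ : Function.Injective ψ := (injective_iff_map_eq_zero ψ).mpr fun P hP => by
    by_contra hne
    obtain ⟨m₀, h₀, hdvd⟩ := exists_dvd_coeff P hne
    choose u hu using hdvd
    obtain ⟨U, hU⟩ : ∃ U : MvPolynomial (Fin m) V, P = MvPolynomial.C (P.coeff m₀) * U :=
      (MvPolynomial.C_dvd_iff_dvd_coeff _ _).mpr fun n => ⟨u n, hu n⟩
    have hc : P.coeff m₀ ≠ 0 := MvPolynomial.mem_support_iff.mp h₀
    have hU₁ : U.coeff m₀ = 1 := by
      have := congrArg (fun q => MvPolynomial.coeff m₀ q) hU
      simp only [MvPolynomial.coeff_C_mul] at this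
      exact (mul_right_eq_self₀.mp this.symm).resolve_right hc
    have hψU : ψ U = 0 := htf _ hc _ (by
      rw [Algebra.smul_def, ← ψ.commutes, ← map_mul]
      exact (congrArg ψ hU).symm.trans hP)
    have := hg ((hcomp U).trans (by rw [hψU, TensorProduct.tmul_zero, map_zero]) : g (U.map (algebraMap V k)) = g 0)
    have h1 := congrArg (fun q => MvPolynomial.coeff m₀ q) this
    simp [MvPolynomial.coeff_map, hU₁] at h1
  rw [hdim]
  haveI : Module.Flat V K := IsLocalization.flat K (nonZeroDivisors V)
  let e := MvPolynomial.algebraTensorAlgEquiv V K (σ := Fin m)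
  let gK : MvPolynomial (Fin m) K →ₐ[K] K ⊗[V] A :=
    (Algebra.TensorProduct.map (AlgHom.id K K) ψ).comp e.symm.toAlgHom
  exact le_dim_of_injective K (K ⊗[V] A) m gK
    ((Module.Flat.lTensor_preserves_injective_linearMap (M := K) ψ.toLinearMap hψ).comp e.symm.injective)

end GrothLib.FibreDimAt6
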