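import Groth.Agent.Lib.FibreDimAt6.Proper
import Groth.Agent.Lib.FibreDimAt6.Valuation
import Groth.Agent.Lib.HTop.Val
import Mathlib.RingTheory.Spectrum.Prime.ConstructibleSet
import Mathlib.AlgebraicGeometry.Morphisms.Flat

/-!
# Fibre dimension of a flat morphism of finite presentation is lower semicontinuous on the target
-/

universe u

open CategoryTheory Limits AlgebraicGeometry TopologicalSpace Set.Notation
open scoped TensorProduct

set_option linter.style.haveILetI false

noncomputable section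

namespace GrothLib.FibreDimAt6

theorem fiber_generic_eq (V A : Type u) [CommRing V] [IsDomain V] [CommRing A] [Algebra V A] :
    ringKrullDim (FractionRing V ⊗[V] A) =
      ringKrullDim ((⟨⊥, Ideal.isPrime_bot⟩ : PrimeSpectrum V).asIdeal.Fiber A) := by
  let κ := (⊥ : Ideal V).ResidueField
  have hinj : Function.Injective (algebraMap V κ) := (injective_iff_map_eq_zero _).mpr fun x hx => by
    have := Ideal.algebraMap_residueField_eq_zero.mp hx
    simpa using this
  haveI : FaithfulSMul V κ := (faithfulSMul_iff_algebraMap_injective V κ).mpr hinj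
  letI : Algebra (FractionRing V) κ := FractionRing.liftAlgebra V κ
  haveI : IsScalarTower V (FractionRing V) κ := FractionRing.isScalarTower_liftAlgebra V κ
  let e := IsScalarTower.toAlgHom V (FractionRing V) κ
  have he : Function.Bijective e := ⟨e.toRingHom.injective, fun z => by
    obtain ⟨a, b, -, rfl⟩ := IsFractionRing.div_surjective (V ⧸ (⊥ : Ideal V)) z
    obtain ⟨a, rfl⟩ := Ideal.Quotient.mk_surjective a
    obtain ⟨b, rfl⟩ := Ideal.Quotient.mk_surjective b
    refine ⟨algebraMap V _ a / algebraMap V _ b, ?_⟩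
    rw [map_div₀, AlgHom.commutes, AlgHom.commutes]
    rfl⟩
  exact ringKrullDim_eq_of_ringEquiv
    (Algebra.TensorProduct.congr (AlgEquiv.ofBijective e he) (AlgEquiv.refl (R := V) (A₁ := A))).toRingEquiv

theorem fiber_closed_eq (V A : Type u) [CommRing V] [IsLocalRing V] [CommRing A] [Algebra V A] :
    ringKrullDim (IsLocalRing.ResidueField V ⊗[V] A) =
      ringKrullDim ((IsLocalRing.closedPoint V).asIdeal.Fiber A) := by
  let κ := (IsLocalRing.maximalIdeal V).ResidueField
  let e : IsLocalRing.ResidueField V →ₐ[V] κ :=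
    IsScalarTower.toAlgHom V (V ⧸ IsLocalRing.maximalIdeal V) κ
  have he : Function.Bijective e := Ideal.bijective_algebraMap_quotient_residueField (IsLocalRing.maximalIdeal V)
  exact ringKrullDim_eq_of_ringEquiv
    (Algebra.TensorProduct.congr (AlgEquiv.ofBijective e he) (AlgEquiv.refl (R := V) (A₁ := A))).toRingEquiv

theorem smul_eq_zero_of_flat {V A : Type u} [CommRing V] [IsDomain V] [CommRing A] [Algebra V A] [Module.Flat V A]
    (c : V) (hc : c ≠ 0) (a : A) (h0 : c • a = 0) : a = 0 := by
  have h := Module.Flat.rTensor_preserves_injective_linearMap (M := A) (LinearMap.lsmul V V c)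
    (fun x y hxy => mul_left_cancel₀ hc hxy)
  refine (TensorProduct.lid V A).symm.injective (h ?_)
  simp only [TensorProduct.lid_symm_apply, LinearMap.rTensor_tmul, LinearMap.lsmul_apply, map_zero]
  rw [TensorProduct.smul_tmul, h0, TensorProduct.tmul_zero]

variable {X S : Scheme.{u}}

theorem dim_fiber_closed_le_generic {W : CommRingCat.{u}} [IsDomain W] [ValuationRing W] (f : X ⟶ Spec W)
    [LocallyOfFiniteType f] [Flat f] :
    topologicalKrullDim ↥(f.fiber (GrothLib.HTop.closed W)) ≤
      topologicalKrullDim ↥(f.fiber (GrothLib.HTop.gen W)) := by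
  refine (dim_fiber_le_iff f _ _).mpr fun x hx => ?_
  obtain ⟨_, ⟨(U : X.Opens), hU, rfl⟩, hxU, -⟩ := X.isBasis_affineOpens.exists_subset_of_mem_open
    (Set.mem_univ x) isOpen_univ
  refine le_trans (fibreDimAt_le_of_open f x U hxU) ?_
  obtain ⟨φ, hφ⟩ := Spec.map_surjective (hU.fromSpec ≫ f)
  letI : Algebra W Γ(X, U) := φ.hom.toAlgebra
  have hsq : hU.fromSpec ≫ f = Spec.map (CommRingCat.ofHom (algebraMap W Γ(X, U))) ≫ 𝟙 _ := by
    rw [Category.comp_id, ← hφ]
    rfl
  haveI : Algebra.FiniteType W Γ(X, U) := by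
    have : LocallyOfFiniteType (Spec.map φ) := hφ ▸ inferInstance
    exact (HasRingHomProperty.Spec_iff (P := @LocallyOfFiniteType)).mp this
  haveI : Module.Flat W Γ(X, U) := by
    have : Flat (Spec.map φ) := hφ ▸ inferInstance
    exact (HasRingHomProperty.Spec_iff (P := @Flat)).mp this
  have h1 := dim_trace f hU.fromSpec (𝟙 _) hsq (IsLocalRing.closedPoint W)
  have h2 := dim_trace f hU.fromSpec (𝟙 _) hsq ⟨⊥, Ideal.isPrime_bot⟩
  rw [hU.range_fromSpec] at h1 h2
  rw [hx]
  refine le_trans h1.le (le_trans ?_ (le_trans h2.ge ?_))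
  · rw [← fiber_closed_eq, ← fiber_generic_eq]
    exact dim_special_le_generic W Γ(X, U) (FractionRing W) fun c hc a h => smul_eq_zero_of_flat c hc a h
  · rw [← dim_inter_fiber_eq f _ U]
    exact topologicalKrullDim_subspace_le _ _

theorem dim_fiber_le_of_specializes (f : X ⟶ S) [LocallyOfFiniteType f] [Flat f] {s' s : S} (h : s' ⤳ s) :
    topologicalKrullDim ↥(f.fiber s) ≤ topologicalKrullDim ↥(f.fiber s') := by
  obtain ⟨W, _, _, g, rfl, rfl⟩ := GrothLib.HTop.exists_valuationRing_map h
  let f' := pullback.snd f g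
  haveI : LocallyOfFiniteType f' := MorphismProperty.pullback_snd f _ inferInstance
  haveI : Flat f' := MorphismProperty.pullback_snd f _ inferInstance
  rw [← GrothLib.FibreBC.topologicalKrullDim_fiber (IsPullback.of_hasPullback f g),
    ← GrothLib.FibreBC.topologicalKrullDim_fiber (IsPullback.of_hasPullback f g)]
  exact dim_fiber_closed_le_generic f'

theorem isOpen_lt_dim_fiber (f : X ⟶ S) [Flat f] [LocallyOfFinitePresentation f] [QuasiCompact f]
    (c : WithBot ℕ∞) : IsOpen {s : S | c < topologicalKrullDim ↥(f.fiber s)} := by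
  refine isOpen_iff_forall_mem_open.mpr fun s hs => ?_
  obtain ⟨_, ⟨(V : S.Opens), hV, rfl⟩, hsV, -⟩ := S.isBasis_affineOpens.exists_subset_of_mem_open
    (Set.mem_univ s) isOpen_univ
  haveI : IsAffine V.toScheme := hV
  obtain ⟨hpre, hfin⟩ : _ ∧ _ := GrothLib.FibreDim6.isConstrFun_dim_fiber f hV
  let T : Set V.toScheme := {v | c < topologicalKrullDim ↥(f.fiber (V.ι v))}
  have hT : Topology.IsConstructible T := by
    rw [show T = ⋃ d ∈ {d | d ∈ Set.range (fun v : V.toScheme => topologicalKrullDim ↥(f.fiber (V.ι v))) ∧ c < d},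
      (fun v : V.toScheme => topologicalKrullDim ↥(f.fiber (V.ι v))) ⁻¹' {d} by
        ext v
        simp only [T, Set.mem_setOf_eq, Set.mem_iUnion, Set.mem_preimage, Set.mem_singleton_iff, exists_prop]
        exact ⟨fun h => ⟨_, ⟨⟨v, rfl⟩, h⟩, rfl⟩, fun ⟨d, ⟨_, hd⟩, he⟩ => he ▸ hd⟩]
    exact GrothLib.FibreDim6.isConstructible_biUnion (hfin.subset fun d hd => hd.1) fun d _ => hpre d
  have hstab : StableUnderGeneralization T := fun a b hba hb =>
    lt_of_lt_of_le hb (dim_fiber_le_of_specializes f (hba.map V.ι.continuous))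
  have hopen : IsOpen T := by
    have h1 : IsOpen (V.toScheme.isoSpec.inv ⁻¹' T : Set (Spec Γ(V.toScheme, ⊤))) :=
      PrimeSpectrum.isOpen_of_stableUnderGeneralization_of_isConstructible
        (fun a b hba hb => hstab (hba.map V.toScheme.isoSpec.inv.continuous) hb)
        (V.toScheme.isoSpec.inv.isConstructible_preimage hT)
    have : T = V.toScheme.isoSpec.hom ⁻¹' (V.toScheme.isoSpec.inv ⁻¹' T) := by
      ext v
      simp [← Scheme.Hom.comp_apply]
    rw [this]
    exact h1.preimage V.toScheme.isoSpec.hom.continuous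
  exact ⟨V.ι '' T, by rintro _ ⟨v, hv, rfl⟩; exact hv, V.ι.isOpenEmbedding.isOpenMap _ hopen,
    ⟨⟨s, hsV⟩, hs, rfl⟩⟩

end GrothLib.FibreDimAt6
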