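import Groth.Agent.Lib.FibreDimAt6.Valuation
import Groth.Agent.Lib.FibreDimAt6.Scheme
import Groth.Agent.Lib.QFSlice.FibreAt
import Groth.Agent.Lib.FibreFlat.OpenLocus
import Mathlib.RingTheory.KrullDimension.NonZeroDivisors
import Mathlib.RingTheory.Flat.Stability
import Mathlib.RingTheory.Ideal.GoingDown

/-!
# Fibre dimension of a flat algebra at the generic point of a component of a fibre
-/

universe u

open scoped TensorProduct

namespace GrothLib.FibreDimAt6

variable {R : Type u} [CommRing R]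

theorem one_tmul_eq_zero_iff (p : Ideal R) [p.IsPrime] {m : ℕ} (x : MvPolynomial (Fin m) R) :
    ((1 : p.ResidueField) ⊗ₜ[R] x : p.ResidueField ⊗[R] MvPolynomial (Fin m) R) = 0 ↔
      x ∈ RingHom.ker (MvPolynomial.map (algebraMap R p.ResidueField)) := by
  rw [RingHom.mem_ker, ← map_eq_zero_iff _ (MvPolynomial.algebraTensorAlgEquiv R p.ResidueField).injective,
    MvPolynomial.algebraTensorAlgEquiv_tmul, one_smul]

theorem ker_map_le_comap {A : Type u} [CommRing A] [Algebra R A] (q : Ideal A) [q.IsPrime] {m : ℕ}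
    (ψ : MvPolynomial (Fin m) R →ₐ[R] A) :
    RingHom.ker (MvPolynomial.map (algebraMap R (q.comap (algebraMap R A)).ResidueField)) ≤ q.comap ψ.toRingHom := by
  intro x hx
  rw [MvPolynomial.ker_map, MvPolynomial.mem_map_C_iff] at hx
  show ψ x ∈ q
  rw [x.as_sum, map_sum]
  refine sum_mem fun d _ => ?_
  have h : algebraMap R A (x.coeff d) ∈ q :=
    (Ideal.algebraMap_residueField_eq_zero (I := q.comap (algebraMap R A))).mp (hx d)
  rw [MvPolynomial.monomial_eq, map_mul, ← MvPolynomial.algebraMap_eq, ψ.commutes]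
  exact q.mul_mem_right _ h

theorem le_dim_fiber_of_flatAt {A : Type u} [CommRing A] [Algebra R A] [Algebra.FiniteType R A] {m : ℕ}
    [Algebra (MvPolynomial (Fin m) R) A] [IsScalarTower R (MvPolynomial (Fin m) R) A] (q' : PrimeSpectrum A)
    [Module.Flat (MvPolynomial (Fin m) R) (Localization.AtPrime q'.asIdeal)] (c : A) (hc : c ∉ q'.asIdeal) :
    (m : WithBot ℕ∞) ≤
      ringKrullDim ((PrimeSpectrum.comap (algebraMap R A) q').asIdeal.Fiber (Localization.Away c)) := by
  let P := MvPolynomial (Fin m) R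
  let Aq := Localization.AtPrime q'.asIdeal
  let p := PrimeSpectrum.comap (algebraMap R A) q'
  let κ := p.asIdeal.ResidueField
  let ψ : P →ₐ[R] A := IsScalarTower.toAlgHom R P A
  let r := RingHom.ker (MvPolynomial.map (algebraMap R κ) : P →+* MvPolynomial (Fin m) κ)
  haveI : r.IsPrime := RingHom.ker_isPrime _
  let M := IsLocalRing.maximalIdeal Aq
  haveI : M.LiesOver (q'.asIdeal.comap (algebraMap P A)) := ⟨by
    rw [Ideal.under, IsScalarTower.algebraMap_eq P A Aq, ← Ideal.comap_comap,
      show Ideal.comap (algebraMap A Aq) M = q'.asIdeal from IsLocalization.AtPrime.comap_maximalIdeal Aq _]⟩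
  obtain ⟨Q, -, hQ, hQr⟩ := Ideal.exists_ideal_le_liesOver_of_le (p := r)
    (q := q'.asIdeal.comap (algebraMap P A)) M (ker_map_le_comap q'.asIdeal ψ)
  let Q₀ : PrimeSpectrum A := PrimeSpectrum.comap (algebraMap A Aq) ⟨Q, hQ⟩
  have hQ₀ : ∀ x : P, ψ x ∈ Q₀.asIdeal ↔ x ∈ r := fun x => by
    show algebraMap A Aq (algebraMap P A x) ∈ Q ↔ _
    rw [hQr.over, Ideal.under, Ideal.mem_comap, IsScalarTower.algebraMap_apply P A Aq]
  have hQle : Q₀.asIdeal ≤ q'.asIdeal := by
    refine le_trans (Ideal.comap_mono (IsLocalRing.le_maximalIdeal hQ.ne_top)) ?_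
    exact le_of_eq (IsLocalization.AtPrime.comap_maximalIdeal Aq q'.asIdeal)
  have hQp : PrimeSpectrum.comap (algebraMap R A) Q₀ = p := by
    refine PrimeSpectrum.ext (Ideal.ext fun a => ?_)
    show algebraMap R A a ∈ Q₀.asIdeal ↔ a ∈ p.asIdeal
    rw [← ψ.commutes, hQ₀, RingHom.mem_ker, MvPolynomial.algebraMap_eq, MvPolynomial.map_C,
      MvPolynomial.C_eq_zero, Ideal.algebraMap_residueField_eq_zero]
  obtain ⟨Qc, hQc⟩ := (PrimeSpectrum.localization_away_comap_range (Localization.Away c) c).symm.subset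
    (show Q₀ ∈ (PrimeSpectrum.basicOpen c : Set (PrimeSpectrum A)) from fun h => hc (hQle h))
  have hQcp : PrimeSpectrum.comap (algebraMap R (Localization.Away c)) Qc = p := by
    rw [IsScalarTower.algebraMap_eq R A (Localization.Away c), PrimeSpectrum.comap_comp_apply, hQc, hQp]
  let B := p.asIdeal.Fiber (Localization.Away c)
  let J : PrimeSpectrum B := PrimeSpectrum.preimageOrderIsoFiber R (Localization.Away c) p ⟨Qc, hQcp⟩
  have hJ : J.asIdeal.comap
      (Algebra.TensorProduct.includeRight (R := R) (A := κ) (B := Localization.Away c)).toRingHom = Qc.asIdeal := by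
    rw [← fiberIso_symm_apply (Localization.Away c) p J, OrderIso.symm_apply_apply]
  let χ : p.asIdeal.Fiber P →ₐ[κ] B :=
    Algebra.TensorProduct.map (AlgHom.id κ κ) ((IsScalarTower.toAlgHom R A (Localization.Away c)).comp ψ)
  have hχ : Function.Injective χ := (injective_iff_map_eq_zero χ).mpr fun w hw => by
    obtain ⟨s, hs, x, hx⟩ := Ideal.Fiber.exists_smul_eq_one_tmul p.asIdeal w
    have h0 : χ ((1 : κ) ⊗ₜ[R] x) = 0 := by
      rw [← hx, AlgHom.map_smul_of_tower, hw, smul_zero]
    have h1 : algebraMap A (Localization.Away c) (ψ x) ∈ Qc.asIdeal := by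
      rw [← hJ]
      show (1 : κ) ⊗ₜ[R] algebraMap A (Localization.Away c) (ψ x) ∈ J.asIdeal
      exact (show χ ((1 : κ) ⊗ₜ[R] x) = (1 : κ) ⊗ₜ[R] algebraMap A (Localization.Away c) (ψ x) from rfl) ▸
        h0.symm ▸ J.asIdeal.zero_mem
    have h2 : ψ x ∈ Q₀.asIdeal := by
      rw [← hQc]
      exact h1
    have h3 : algebraMap R κ s • w = 0 := by
      rw [algebraMap_smul, hx, one_tmul_eq_zero_iff]
      exact (hQ₀ x).mp h2
    exact (smul_eq_zero.mp h3).resolve_left fun h => hs (Ideal.algebraMap_residueField_eq_zero.mp h)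
  exact le_dim_of_injective κ B m (χ.comp (MvPolynomial.algebraTensorAlgEquiv R κ).symm.toAlgHom)
    (hχ.comp (MvPolynomial.algebraTensorAlgEquiv R κ).symm.injective)

/-- In a fibre, near a minimal prime the dimension is that of the component. -/
theorem exists_away_dim_le_component {A : Type u} [CommRing A] [Algebra R A] [Algebra.FiniteType R A]
    (p : PrimeSpectrum R) (J : PrimeSpectrum (p.asIdeal.Fiber A)) (hJ : ∀ J' ≤ J, J' = J) :
    ∃ c : A, c ∉ J.asIdeal.comap (Algebra.TensorProduct.includeRight (R := R) (A := p.asIdeal.ResidueField) (B := A)).toRingHom ∧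
      ringKrullDim (p.asIdeal.Fiber (Localization.Away c)) ≤ ringKrullDim (p.asIdeal.Fiber A ⧸ J.asIdeal) := by
  classical
  let C := p.asIdeal.Fiber A
  haveI : IsNoetherianRing C := Algebra.FiniteType.isNoetherianRing p.asIdeal.ResidueField C
  have hfin : (minimalPrimes C).Finite := minimalPrimes.finite_of_isNoetherianRing C
  have key : ∀ I ∈ minimalPrimes C, I ≠ J.asIdeal → ∃ e ∈ I, e ∉ J.asIdeal := fun I hI hne => by
    by_contra h
    push Not at h
    exact hne (congrArg PrimeSpectrum.asIdeal (hJ ⟨I, hI.1.1⟩ h))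
  choose e he heJ using key
  let w : C := ∏ I ∈ hfin.toFinset.attach, if h : I.1 = J.asIdeal then 1 else e I.1 (hfin.mem_toFinset.mp I.2) h
  have hw : w ∉ J.asIdeal := fun h => by
    obtain ⟨I, -, hI⟩ := J.isPrime.prod_mem_iff.mp h
    split_ifs at hI with h'
    · exact J.isPrime.ne_top ((Ideal.eq_top_iff_one _).mpr hI)
    · exact heJ _ _ h' hI
  have hwI : ∀ K : PrimeSpectrum C, w ∉ K.asIdeal → J ≤ K := fun K hK => by
    obtain ⟨I, hI, hIK⟩ := Ideal.exists_minimalPrimes_le (bot_le : (⊥ : Ideal C) ≤ K.asIdeal)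
    by_cases h : I = J.asIdeal
    · subst h
      exact hIK
    · refine absurd (hIK ?_) hK
      exact Ideal.mem_of_dvd _ (by
        refine dvd_trans ?_ (Finset.dvd_prod_of_mem _ (Finset.mem_attach _ ⟨I, hfin.mem_toFinset.mpr hI⟩))
        rw [dif_neg h]) (he I hI h)
  obtain ⟨s, hs, c, hc⟩ := Ideal.Fiber.exists_smul_eq_one_tmul p.asIdeal w
  have hcmem : ∀ K : PrimeSpectrum C, (1 : p.asIdeal.ResidueField) ⊗ₜ[R] c ∈ K.asIdeal ↔ w ∈ K.asIdeal := fun K => by
    rw [← hc, ← algebraMap_smul p.asIdeal.ResidueField s w]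
    refine ⟨fun h => ?_, fun h => Submodule.smul_of_tower_mem _ _ h⟩
    have := Submodule.smul_of_tower_mem K.asIdeal (algebraMap R p.asIdeal.ResidueField s)⁻¹ h
    rwa [inv_smul_smul₀ fun h0 => hs (Ideal.algebraMap_residueField_eq_zero.mp h0)] at this
  refine ⟨c, fun h => hw ((hcmem J).mp h), ?_⟩
  let eA := PrimeSpectrum.preimageOrderIsoFiber R A p
  let ec := PrimeSpectrum.preimageOrderIsoFiber R (Localization.Away c) p
  let m : PrimeSpectrum (p.asIdeal.Fiber (Localization.Away c)) → PrimeSpectrum C := fun z =>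
    eA ⟨PrimeSpectrum.comap (algebraMap A (Localization.Away c)) (ec.symm z).1, by
      show PrimeSpectrum.comap _ (PrimeSpectrum.comap _ _) = p
      rw [← PrimeSpectrum.comap_comp_apply, ← IsScalarTower.algebraMap_eq]
      exact (ec.symm z).2⟩
  have hmJ : ∀ z, m z ∈ PrimeSpectrum.zeroLocus (R := C) J.asIdeal := fun z => by
    refine hwI _ fun h => ?_
    have h1 : c ∈ (eA.symm (m z)).1.asIdeal := by
      rw [fiberIso_symm_apply]
      exact (hcmem _).mpr h
    simp only [m, OrderIso.symm_apply_apply] at h1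
    have h2 : PrimeSpectrum.comap (algebraMap A (Localization.Away c)) (ec.symm z).1 ∈
        (PrimeSpectrum.basicOpen c : Set (PrimeSpectrum A)) :=
      (PrimeSpectrum.localization_away_comap_range (Localization.Away c) c).subset ⟨_, rfl⟩
    exact h2 h1
  rw [ringKrullDim_quotient]
  refine Order.krullDim_le_of_strictMono (fun z => ⟨m z, hmJ z⟩) (Monotone.strictMono_of_injective ?_ ?_)
  · intro z z' h
    exact eA.monotone (Ideal.comap_mono (ec.symm.monotone h))
  · intro z z' h
    refine ec.symm.injective (Subtype.ext ?_)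
    exact PrimeSpectrum.localization_comap_injective (Localization.Away c) (Submonoid.powers c)
      (congrArg Subtype.val (eA.injective (congrArg Subtype.val h)))

theorem exists_fibreDim_between {A : Type u} [CommRing A] [Algebra R A] [Algebra.FinitePresentation R A]
    [Module.Flat R A] (q : PrimeSpectrum A)
    (hmin : ∀ q' ≤ q, PrimeSpectrum.comap (algebraMap R A) q' = PrimeSpectrum.comap (algebraMap R A) q → q' = q) :
    ∃ (d : ℕ) (b : A), b ∉ q.asIdeal ∧
      (∃ c : A, c ∉ q.asIdeal ∧
        ringKrullDim ((PrimeSpectrum.comap (algebraMap R A) q).asIdeal.Fiber (Localization.Away c)) ≤ (d : WithBot ℕ∞)) ∧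
      ∀ q' : PrimeSpectrum A, b ∉ q'.asIdeal → ∀ c ∉ q'.asIdeal, (d : WithBot ℕ∞) ≤
        ringKrullDim ((PrimeSpectrum.comap (algebraMap R A) q').asIdeal.Fiber (Localization.Away c)) := by
  classical
  let p := PrimeSpectrum.comap (algebraMap R A) q
  let κ := p.asIdeal.ResidueField
  let C := p.asIdeal.Fiber A
  let eA := PrimeSpectrum.preimageOrderIsoFiber R A p
  let J : PrimeSpectrum C := eA ⟨q, rfl⟩
  have hJq : J.asIdeal.comap (Algebra.TensorProduct.includeRight (R := R) (A := κ) (B := A)).toRingHom = q.asIdeal := by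
    rw [← fiberIso_symm_apply A p J, OrderIso.symm_apply_apply]
  have hJ : ∀ J' ≤ J, J' = J := fun J' h => by
    have h' : eA.symm J' ≤ ⟨q, rfl⟩ := eA.symm_apply_le.mpr h
    have := hmin _ h' (eA.symm J').2
    rw [← eA.apply_symm_apply J']
    exact congrArg eA (Subtype.ext this)
  obtain ⟨c₀, hc₀, hdim⟩ := exists_away_dim_le_component p J hJ
  let D := C ⧸ J.asIdeal
  obtain ⟨m, g, hg, hgfin⟩ := exists_finite_inj_algHom_of_fg κ D
  have hD : ringKrullDim D = (m : WithBot ℕ∞) := by
    letI := g.toRingHom.toAlgebra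
    haveI : Algebra.IsIntegral (MvPolynomial (Fin m) κ) D := ⟨fun x => hgfin.to_isIntegral x⟩
    rw [GrothLib.Dim.ringKrullDim_eq_of_isIntegral (R := MvPolynomial (Fin m) κ) (S := D) hg,
      MvPolynomial.ringKrullDim_of_isNoetherianRing, ringKrullDim_eq_zero_of_field]
    simp
  choose C₁ hC₁ using fun j : Fin m => Ideal.Quotient.mk_surjective (g (MvPolynomial.X j))
  choose s hs a hsa using fun j : Fin m => Ideal.Fiber.exists_smul_eq_one_tmul p.asIdeal (C₁ j)
  let P := MvPolynomial (Fin m) R
  let ψ : P →ₐ[R] A := MvPolynomial.aeval a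
  letI := ψ.toRingHom.toAlgebra
  haveI : IsScalarTower R P A := IsScalarTower.of_algebraMap_eq fun c => (ψ.commutes c).symm
  let r := q.asIdeal.comap (algebraMap P A)
  let σ : MvPolynomial (Fin m) κ →ₐ[κ] MvPolynomial (Fin m) κ :=
    MvPolynomial.aeval fun j => algebraMap R κ (s j) • MvPolynomial.X j
  have hσ : Function.Injective σ := by
    refine Function.LeftInverse.injective (g := MvPolynomial.aeval fun j => (algebraMap R κ (s j))⁻¹ • MvPolynomial.X j) fun z => ?_
    rw [← AlgHom.comp_apply]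
    refine DFunLike.congr_fun (g := AlgHom.id κ _) (MvPolynomial.algHom_ext fun j => ?_) z
    simp only [σ, AlgHom.comp_apply, MvPolynomial.aeval_X, map_smul, AlgHom.id_apply]
    rw [smul_smul, mul_inv_cancel₀ fun h0 => hs j (Ideal.algebraMap_residueField_eq_zero.mp h0), one_smul]
  have hr : r ≤ RingHom.ker (MvPolynomial.map (algebraMap R κ) : P →+* MvPolynomial (Fin m) κ) := fun x hx => by
    rw [RingHom.mem_ker]
    refine hσ (hg ?_)
    rw [map_zero, map_zero]
    have h1 : ∀ z : P, g (σ (MvPolynomial.map (algebraMap R κ) z)) =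
        Ideal.Quotient.mk J.asIdeal ((1 : κ) ⊗ₜ[R] ψ z) := by
      intro z
      induction z using MvPolynomial.induction_on with
      | C t =>
        rw [MvPolynomial.map_C, ← MvPolynomial.algebraMap_eq, AlgHom.commutes, AlgHom.commutes,
          ← MvPolynomial.algebraMap_eq, ψ.commutes]
        refine congrArg (Ideal.Quotient.mk J.asIdeal) (?_ : algebraMap R κ t ⊗ₜ[R] (1 : A) = _)
        rw [Algebra.algebraMap_eq_smul_one, TensorProduct.smul_tmul, ← Algebra.algebraMap_eq_smul_one]
      | add z z' hz hz' => simp only [map_add, TensorProduct.tmul_add, hz, hz']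
      | mul_X z j hz =>
        simp only [map_mul, MvPolynomial.map_X, hz]
        rw [MvPolynomial.aeval_X, map_smul, ← hC₁ j, ← Ideal.Quotient.mkₐ_eq_mk κ, ← map_smul, algebraMap_smul,
          hsa j, ← map_mul, Algebra.TensorProduct.tmul_mul_tmul, one_mul]
        rw [show MvPolynomial.aeval a (MvPolynomial.X j) = a j from MvPolynomial.aeval_X a j]
    rw [h1]
    refine Ideal.Quotient.eq_zero_iff_mem.mpr ?_
    have hx' : ψ x ∈ q.asIdeal := hx
    rw [← hJq] at hx'
    exact hx'
  haveI hflat : Module.Flat P (Localization.AtPrime q.asIdeal ⊗[A] A) := by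
    haveI : r.IsPrime := inferInstance
    refine GrothLib.QFSlice.flat_at_of_fibre (R := R) (S := P) (S' := A) (M := A) q.asIdeal
      fun F _ _ hkill hunit => ?_
    let K := r.ResidueField
    let θ : K →+* F := Ideal.ResidueField.lift r (algebraMap P F) (fun x hx => by
      have hx' := hr hx
      rw [MvPolynomial.ker_map, MvPolynomial.mem_map_C_iff] at hx'
      rw [RingHom.mem_ker, x.as_sum, map_sum]
      refine Finset.sum_eq_zero fun d _ => ?_
      rw [MvPolynomial.monomial_eq, map_mul, ← MvPolynomial.algebraMap_eq, hkill, zero_mul]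
      show algebraMap R P (x.coeff d) ∈ r
      show algebraMap P A (algebraMap R P (x.coeff d)) ∈ q.asIdeal
      rw [← IsScalarTower.algebraMap_apply]
      exact (Ideal.algebraMap_residueField_eq_zero (I := p.asIdeal)).mp (hx' d))
      (fun y hy => hunit y hy)
    letI := θ.toAlgebra
    haveI : IsScalarTower P K F := IsScalarTower.of_algebraMap_eq fun x =>
      (Ideal.ResidueField.lift_algebraMap (I := r) (algebraMap P F) _ (fun y hy => hunit y hy) x).symm
    exact Module.Flat.of_linearEquiv (TensorProduct.AlgebraTensorModule.cancelBaseChange P K F F A).symm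
  haveI : Algebra.FinitePresentation P A := Algebra.FinitePresentation.of_restrict_scalars_finitePresentation R P A
  let eL : ∀ q' : PrimeSpectrum A, LocalizedModule q'.asIdeal.primeCompl A ≃ₗ[P]
      Localization.AtPrime q'.asIdeal ⊗[A] A := fun q' =>
    (LocalizedModule.equivTensorProduct q'.asIdeal.primeCompl A).restrictScalars P
  have hq : q ∈ {q' : PrimeSpectrum A | Module.Flat P (LocalizedModule q'.asIdeal.primeCompl A)} :=
    Module.Flat.of_linearEquiv (eL q)
  obtain ⟨_, ⟨b, rfl⟩, hb, hsub⟩ := PrimeSpectrum.isTopologicalBasis_basic_opens.exists_subset_of_mem_open hq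
    (GrothLib.FibreFlat.isOpen_flat_locus (R := P) (A := A) (M := A))
  refine ⟨m, b, hb, ⟨c₀, hJq ▸ hc₀, hdim.trans hD.le⟩, fun q' hb' c hc => ?_⟩
  haveI : Module.Flat P (Localization.AtPrime q'.asIdeal) := by
    haveI : Module.Flat P (LocalizedModule q'.asIdeal.primeCompl A) := hsub hb'
    exact Module.Flat.of_linearEquiv
      (((TensorProduct.rid A (Localization.AtPrime q'.asIdeal)).symm.restrictScalars P).trans (eL q').symm)
  exact le_dim_fiber_of_flatAt q' c hc

end GrothLib.FibreDimAt6
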